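import Groth.Agent.CycB.C1Fin
import Mathlib.AlgebraicGeometry.FunctionField

/-!
# The fundamental cycle of an integral closed subscheme
-/

set_option autoImplicit false

universe u

open CategoryTheory AlgebraicGeometry CategoryTheory.Limits

namespace K712.CycInt

open Groth.Agent Groth.Agent.CycB Groth.Agent.CycB.C1Fin

variable {X : Scheme.{u}}

theorem length_generic (Z : Scheme.{u}) [IsIntegral Z] :
    Module.length (Z.presheaf.stalk (genericPoint Z)) (Z.presheaf.stalk (genericPoint Z)) = 1 := by
  have h : IsField (Z.presheaf.stalk (genericPoint Z)) := Field.toIsField (Z.functionField)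
  letI := h.toField
  haveI : IsSimpleModule (Z.presheaf.stalk (genericPoint Z))
      (Z.presheaf.stalk (genericPoint Z)) := inferInstance
  rw [Module.length_eq_one_iff]
  infer_instance

theorem subschemeFun_integral {δ : X → ℤ} (hδ : Cyc.IsDimFun X δ) {Z : Scheme.{u}} [IsIntegral Z]
    (i : Z ⟶ X) [IsClosedImmersion i] {κ : ℤ} (hκ : δ (i (genericPoint Z)) = κ) :
    Cyc.subschemeFun δ κ i = Set.indicator {i (genericPoint Z)} 1 := by
  classical
  funext x
  by_cases hx : x ∈ Set.range ⇑i
  · obtain ⟨z, rfl⟩ := hx
    rw [subschemeFun_apply_of_injective i i.isClosedEmbedding.injective, subschemeFun_id]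
    by_cases hz : z = genericPoint Z
    · subst hz
      rw [if_pos hκ, length_generic, Set.indicator_of_mem (Set.mem_singleton _)]
      rfl
    · have h1 : i z ≠ i (genericPoint Z) := fun h => hz (i.isClosedEmbedding.injective h)
      have h2 := (hδ (i (genericPoint Z)) (i z)
        ((genericPoint_specializes z).map i.continuous) h1.symm).1
      rw [if_neg (by omega), Set.indicator_of_notMem (s := {i (genericPoint Z)}) (by simpa using h1)]
  · rw [subschemeFun_apply_notMem i δ κ x hx, Set.indicator_of_notMem]
    rintro rfl
    exact hx ⟨_, rfl⟩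

end K712.CycInt
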