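import Groth.Agent.IntTh.K712.BlowFib
import Groth.Agent.S9354
import Groth.Agent.S2768
import Groth.Agent.S1681
import Groth.Agent.Ega4fib.H114.GenComp
import Groth.Agent.Ega4fib.H174.EquidimAff
import Groth.Agent.Ega43.FibreDimFinite
import Groth.Agent.Ega4fib.H172.FibDimBC

/-!
# Blow-ups over the projective line: fibre dimension
-/

set_option autoImplicit false
universe u

open CategoryTheory CategoryTheory.Limits AlgebraicGeometry TopologicalSpace
open BlowUp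
open Groth.Agent Groth.Agent.Divis Groth.Agent.Ega2.BlowBasic
open Groth.Agent.CycB.RelDim K712.BlowFib

namespace K712.BlowDim

theorem fibreDimAt_toBase (S : Scheme.{u}) (x : CohB1.ProjSpaceOver 1 S) :
    FlatMor.fibreDimAt (CohB1.ProjSpaceOver.toBase 1 S) x = (1 : ℕ) := by
  have : SmoothOfRelativeDimension 1 (CohB1.ProjSpaceOver.toBase 1 S) := inferInstance
  exact S2768.result 1 _ x

/-- A point of `M` maximal in its fibre over `S` is not on the exceptional divisor. -/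
theorem notMem_support {P M T S : Scheme.{u}} (b : M ⟶ P) {J : P.IdealSheafData} (hb : IsBlowUp b J)
    (p : P ⟶ T) (r : T ⟶ S) (hE : Flat ((exceptional b J).subschemeι ≫ b ≫ p ≫ r)) (z : M)
    (hz : ∀ w : M, w ⤳ z → ((b ≫ p) ≫ r) w = ((b ≫ p) ≫ r) z → w = z) : b z ∉ J.support := by
  have h1 := isBlowUp_bs b p r (((b ≫ p) ≫ r) z) hb hE
  have h2 := (S1681.result _ _ h1).mapsTo (x := ((b ≫ p) ≫ r).asFiber z) (by
    intro y hy
    have h3 : ((b ≫ p) ≫ r).fiberι (((b ≫ p) ≫ r) z) y = z := by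
      apply hz
      · have h4 := hy.map (((b ≫ p) ≫ r).fiberι (((b ≫ p) ≫ r) z)).continuous
        rwa [Scheme.Hom.fiberι_asFiber] at h4
      · have h5 : ((b ≫ p) ≫ r).fiberι (((b ≫ p) ≫ r) z) y ∈
            Set.range (((b ≫ p) ≫ r).fiberι (((b ≫ p) ≫ r) z)) := ⟨y, rfl⟩
        rw [Scheme.Hom.range_fiberι] at h5
        exact h5
    apply (((b ≫ p) ≫ r).fiberι (((b ≫ p) ≫ r) z)).isEmbedding.injective
    rw [h3, Scheme.Hom.fiberι_asFiber])
  have h3 := h2.2
  intro h4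
  apply h3
  rw [Scheme.IdealSheafData.support_comap]
  change (p ≫ r).fiberι _ (bs b p r _ (((b ≫ p) ≫ r).asFiber z)) ∈ J.support
  rw [← Scheme.Hom.comp_apply, bs_ι, Scheme.Hom.comp_apply, Scheme.Hom.fiberι_asFiber]
  exact h4

theorem fibreDimAt_over_P1 {P M S : Scheme.{u}} (b : M ⟶ P) {J : P.IdealSheafData} (hb : IsBlowUp b J)
    (p : P ⟶ CohB1.ProjSpaceOver 1 S) [Flat p] [LocallyOfFinitePresentation p]
    [LocallyOfFinitePresentation b]
    (hE : Flat ((exceptional b J).subschemeι ≫ b ≫ p ≫ CohB1.ProjSpaceOver.toBase 1 S)) (n : ℕ)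
    (hdim : ∀ x, FlatMor.fibreDimAt p x = n) (m : M) : FlatMor.fibreDimAt (b ≫ p) m = n := by
  have hP : ∀ x, FlatMor.fibreDimAt (p ≫ CohB1.ProjSpaceOver.toBase 1 S) x = ((n + 1 : ℕ) : WithBot ℕ∞) := by
    intro x
    rw [(S9354.result p (CohB1.ProjSpaceOver.toBase 1 S) x).2 (Flat.stalkMap p x), hdim,
      fibreDimAt_toBase]
    rfl
  have hfl := flat_over_P1 b hb p hE
  have hM : FlatMor.fibreDimAt ((b ≫ p) ≫ CohB1.ProjSpaceOver.toBase 1 S) m =
      ((n + 1 : ℕ) : WithBot ℕ∞) := by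
    refine Ega4fib.H174.EquidimAff.fibreDimAt_eq _ m (n + 1) ⊤ trivial fun z _ hz => ?_
    obtain ⟨k, hk, hk'⟩ := Ega4fib.H114.GenComp.exists_fibreDimAt_eq
      ((b ≫ p) ≫ CohB1.ProjSpaceOver.toBase 1 S) (z := z) hz
    have hzs := notMem_support b hb p (CohB1.ProjSpaceOver.toBase 1 S) hE z hz
    have hzO : z ∈ offSupport (J.comap b) := by
      rw [mem_offSupport, Scheme.IdealSheafData.support_comap]
      exact hzs
    have h1 := Ega4fib.H172.FibDimBC.fibreDimAt_isOpenImmersion_comp (offSupport (J.comap b)).ι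
      ((b ≫ p) ≫ CohB1.ProjSpaceOver.toBase 1 S) ⟨z, hzO⟩
    have h2 := isOpenImmersion_offSupport hb
    have h3 := Ega4fib.H172.FibDimBC.fibreDimAt_isOpenImmersion_comp
      ((offSupport (J.comap b)).ι ≫ b) (p ≫ CohB1.ProjSpaceOver.toBase 1 S) ⟨z, hzO⟩
    have h4 : (offSupport (J.comap b)).ι ≫ (b ≫ p) ≫ CohB1.ProjSpaceOver.toBase 1 S =
        ((offSupport (J.comap b)).ι ≫ b) ≫ p ≫ CohB1.ProjSpaceOver.toBase 1 S := by
      simp only [Category.assoc]
    rw [h4, h3, hP] at h1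
    have h5 : FlatMor.fibreDimAt ((b ≫ p) ≫ CohB1.ProjSpaceOver.toBase 1 S) z =
        ((n + 1 : ℕ) : WithBot ℕ∞) := h1.symm
    rw [hk'] at h5
    rw [hk]
    have h6 : k = n + 1 := by exact_mod_cast h5
    rw [h6]
  have h7 := (S9354.result (b ≫ p) (CohB1.ProjSpaceOver.toBase 1 S) m).2 (Flat.stalkMap (b ≫ p) m)
  rw [hM, fibreDimAt_toBase] at h7
  obtain ⟨d, hd⟩ := Ega43.FibreDimFinite.exists_fibreDimAt_eq (b ≫ p) m
  rw [hd] at h7 ⊢
  have h8 : n + 1 = d + 1 := by exact_mod_cast h7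
  have h9 : n = d := by omega
  rw [h9]

end K712.BlowDim
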