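import Groth.Agent.Sga67.BlowQuot
import Groth.Agent.Ega4dB.AffBlowReg
import Groth.Agent.Divis.RegImm
import Mathlib.RingTheory.FinitePresentation

/-!
# The affine blow-up algebra of a regular sequence is finitely presented

For a weakly regular sequence `f_1, …, f_c` of `A` and `I = (f)`, the algebra `A[I/f_k]` is
`A[T_j : j ≠ k] / (f_k T_j - f_j)`.
-/

set_option autoImplicit false
universe u

open BlowUp MvPolynomial RingTheory.Sequence

namespace K712.BlowFP

open Groth.Agent Groth.Agent.Sga67.BlowQuot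

variable {A : Type u} [CommRing A] {c : ℕ} (f : Fin c → A) (k : Fin c)

/-- The variables, with `T k = 1`. -/
noncomputable def T (j : Fin c) : MvPolynomial {i : Fin c // i ≠ k} A :=
  if h : j = k then 1 else X ⟨j, h⟩

theorem T_self : T (A := A) k k = 1 := dif_pos rfl

theorem T_ne (j : {i : Fin c // i ≠ k}) : T (A := A) k j.1 = X j := dif_neg j.2

theorem Φ_T (j : Fin c) : Φ f k (T k j) = fr f k j := by
  by_cases h : j = k
  · subst h
    rw [T_self, map_one, fr_self]
  · have h1 := T_ne (A := A) k ⟨j, h⟩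
    change T k j = _ at h1
    rw [h1]
    simp [Φ]

/-- The ideal of relations. -/
noncomputable def rel : Ideal (MvPolynomial {i : Fin c // i ≠ k} A) :=
  Ideal.span (Set.range fun j => C (f k) * T k j - C (f j))

theorem gen_mem (j : Fin c) : C (f k) * T k j - C (f j) ∈ rel f k :=
  Ideal.subset_span ⟨j, rfl⟩

theorem isH1Regular_C (hf : IsWeaklyRegular A (List.ofFn f)) :
    CAlgX.IsH1Regular (fun j => (C (f j) : MvPolynomial {i : Fin c // i ≠ k} A)) := by
  apply Ega4dB.AffBlowReg.isH1Regular_of_isWeaklyRegular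
  have h1 := Divis.RegImm.isWeaklyRegular_map_of_flat
    (C : A →+* MvPolynomial {i : Fin c // i ≠ k} A) (RingHom.flat_algebraMap_iff.mpr inferInstance) hf
  rw [List.map_ofFn] at h1
  exact h1

theorem mem_of_mul_mem (hf : IsWeaklyRegular A (List.ofFn f)) {P : MvPolynomial {i : Fin c // i ≠ k} A}
    (hP : C (f k) * P ∈ rel f k) : P ∈ rel f k := by
  classical
  obtain ⟨Q, hQ⟩ := (Ideal.mem_span_range_iff_exists_fun).mp hP
  let m : Fin c → MvPolynomial {i : Fin c // i ≠ k} A :=
    Q + Pi.single k (P - ∑ j, T k j * Q j)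
  have hm : ∑ j, m j * C (f j) = 0 := by
    have h1 : ∑ j, m j * C (f j) = ∑ j, Q j * C (f j) + (P - ∑ j, T k j * Q j) * C (f k) := by
      simp only [m, Pi.add_apply, add_mul, Finset.sum_add_distrib]
      congr 1
      rw [Finset.sum_eq_single k]
      · rw [Pi.single_eq_same]
      · intro j _ hj
        rw [Pi.single_eq_of_ne hj, zero_mul]
      · intro h; exact absurd (Finset.mem_univ _) h
    rw [h1, sub_mul, mul_comm P, ← hQ, Finset.sum_mul, ← Finset.sum_sub_distrib, ← Finset.sum_add_distrib]
    refine Finset.sum_eq_zero fun j _ => ?_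
    ring
  have h2 := isH1Regular_C f k hf m hm
  have key : ∀ v ∈ Submodule.span (MvPolynomial {i : Fin c // i ≠ k} A)
      {v : Fin c → MvPolynomial {i : Fin c // i ≠ k} A |
        ∃ i j : Fin c, v = Pi.single i (C (f j)) - Pi.single j (C (f i))},
      ∑ j, T k j * v j ∈ rel f k := by
    intro v hv
    induction hv using Submodule.span_induction with
    | mem v hv =>
      obtain ⟨i, j, rfl⟩ := hv
      have h3 : ∑ l, T k l * ((Pi.single i (C (f j)) - Pi.single j (C (f i)) :
          Fin c → MvPolynomial {i : Fin c // i ≠ k} A) l) = T k i * C (f j) - T k j * C (f i) := by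
        simp only [Pi.sub_apply, mul_sub, Finset.sum_sub_distrib]
        congr 1
        · rw [Finset.sum_eq_single i]
          · rw [Pi.single_eq_same]
          · intro l _ hl
            rw [Pi.single_eq_of_ne hl, mul_zero]
          · intro h; exact absurd (Finset.mem_univ _) h
        · rw [Finset.sum_eq_single j]
          · rw [Pi.single_eq_same]
          · intro l _ hl
            rw [Pi.single_eq_of_ne hl, mul_zero]
          · intro h; exact absurd (Finset.mem_univ _) h
      rw [h3]
      have h4 : T k i * C (f j) - T k j * C (f i) =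
          T k j * (C (f k) * T k i - C (f i)) - T k i * (C (f k) * T k j - C (f j)) := by ring
      rw [h4]
      exact Ideal.sub_mem _ (Ideal.mul_mem_left _ _ (gen_mem f k i)) (Ideal.mul_mem_left _ _ (gen_mem f k j))
    | zero => simp
    | add v w _ _ hv hw =>
      have h3 : ∑ l, T k l * (v + w) l = ∑ l, T k l * v l + ∑ l, T k l * w l := by
        simp only [Pi.add_apply, mul_add, Finset.sum_add_distrib]
      rw [h3]
      exact Ideal.add_mem _ hv hw
    | smul r v _ hv =>
      have h3 : ∑ l, T k l * (r • v) l = r * ∑ l, T k l * v l := by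
        rw [Finset.mul_sum]
        refine Finset.sum_congr rfl fun l _ => ?_
        rw [Pi.smul_apply, smul_eq_mul]; ring
      rw [h3]
      exact Ideal.mul_mem_left _ _ hv
  have h5 := key m h2
  have h6 : ∑ j, T k j * m j = P := by
    simp only [m, Pi.add_apply, mul_add, Finset.sum_add_distrib]
    rw [Finset.sum_eq_single (f := fun j => T k j * (Pi.single k (P - ∑ j, T k j * Q j) :
      Fin c → MvPolynomial {i : Fin c // i ≠ k} A) j) k]
    · rw [Pi.single_eq_same, T_self]; ring
    · intro l _ hl
      rw [Pi.single_eq_of_ne hl, mul_zero]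
    · intro h; exact absurd (Finset.mem_univ _) h
  rwa [h6] at h5

theorem mem_of_pow_mul_mem (hf : IsWeaklyRegular A (List.ofFn f)) (n : ℕ)
    {P : MvPolynomial {i : Fin c // i ≠ k} A} (hP : C (f k) ^ n * P ∈ rel f k) : P ∈ rel f k := by
  induction n with
  | zero => simpa using hP
  | succ n ih =>
    apply ih
    apply mem_of_mul_mem f k hf
    rwa [← mul_assoc, ← pow_succ']

theorem exists_const (P : MvPolynomial {i : Fin c // i ≠ k} A) :
    ∃ (n : ℕ) (m : A), C (f k) ^ n * P - C m ∈ rel f k := by
  induction P using MvPolynomial.induction_on with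
  | C a => exact ⟨0, a, by simp⟩
  | add P Q hP hQ =>
    obtain ⟨n, m, h⟩ := hP
    obtain ⟨n', m', h'⟩ := hQ
    refine ⟨n + n', f k ^ n' * m + f k ^ n * m', ?_⟩
    have h1 : C (f k) ^ (n + n') * (P + Q) - C (f k ^ n' * m + f k ^ n * m') =
        C (f k) ^ n' * (C (f k) ^ n * P - C m) + C (f k) ^ n * (C (f k) ^ n' * Q - C m') := by
      rw [map_add, map_mul, map_mul, map_pow, map_pow]; ring
    rw [h1]
    exact Ideal.add_mem _ (Ideal.mul_mem_left _ _ h) (Ideal.mul_mem_left _ _ h')
  | mul_X P j hP =>
    obtain ⟨n, m, h⟩ := hP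
    refine ⟨n + 1, m * f j.1, ?_⟩
    have h1 : C (f k) ^ (n + 1) * (P * X j) - C (m * f j.1) =
        C (f k) * X j * (C (f k) ^ n * P - C m) + C m * (C (f k) * T k j.1 - C (f j.1)) := by
      rw [map_mul, T_ne]; ring
    rw [h1]
    exact Ideal.add_mem _ (Ideal.mul_mem_left _ _ h) (Ideal.mul_mem_left _ _ (gen_mem f k j.1))

theorem ker_Φ (hf : IsWeaklyRegular A (List.ofFn f)) : RingHom.ker (Φ f k) = rel f k := by
  have hle : rel f k ≤ RingHom.ker (Φ f k) := by
    refine Ideal.span_le.2 ?_
    rintro _ ⟨j, rfl⟩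
    change Φ f k (C (f k) * T k j - C (f j)) = 0
    rw [map_sub, map_mul, Φ_T, algHom_C, algHom_C, fr_spec, sub_self]
  refine le_antisymm (fun P hP => ?_) hle
  obtain ⟨n, m, h⟩ := exists_const f k P
  have h1 : Φ f k (C (f k) ^ n * P - C m) = 0 := hle h
  rw [map_sub, map_mul, RingHom.mem_ker.1 hP, mul_zero, zero_sub, neg_eq_zero, algHom_C] at h1
  obtain ⟨l, hl⟩ := (Ega4dB.AffBlowFlat.affBlow_affineAlgebra (Ideal.span (Set.range f)) (f k)
    (Ideal.subset_span ⟨k, rfl⟩)).eq_zero m h1
  have h2 : C (f k) ^ l * C m = (0 : MvPolynomial {i : Fin c // i ≠ k} A) := by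
    rw [← map_pow, ← map_mul, hl, map_zero]
  apply mem_of_pow_mul_mem f k hf (l + n)
  have h3 : C (f k) ^ (l + n) * P = C (f k) ^ l * (C (f k) ^ n * P - C m) + C (f k) ^ l * C m := by
    ring
  rw [h3, h2, add_zero]
  exact Ideal.mul_mem_left _ _ h

/-- **`A[I/f_k]` is finitely presented over `A` for a weakly regular sequence `f`.** -/
theorem finitePresentation (hf : IsWeaklyRegular A (List.ofFn f)) :
    Algebra.FinitePresentation A (affineAlgebra A (Ideal.span (Set.range f)) (f k)) := by
  refine Algebra.FinitePresentation.of_surjective (f := Φ f k) (Φ_surjective f k) ?_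
  have h : RingHom.ker (Φ f k).toRingHom = rel f k := ker_Φ f k hf
  rw [h]
  exact Submodule.fg_span (Set.finite_range _)

end K712.BlowFP
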