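import Groth.Agent.IntTh.K712.BlowGeo
import Groth.Agent.SDiv.K473.MeroReg
import Groth.Agent.Sga7.H592.SncFinM
import Groth.Agent.Dual.H375.LciLocus
import Groth.Agent.Ega43.DedekindOpen
import Groth.Agent.Sga4B.P1Curve441
import Groth.Agent.AlgSp.K633.FlatCore
import Mathlib.RingTheory.Flat.TorsionFree

/-!
# Blow-ups over the projective line: flatness

* `flat_of_regSub`: a morphism to an integral scheme with principal local rings which pulls back
  regular sections to regular sections is flat.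
* `flat_comp_of_curve`: a blow-up of a scheme flat over a smooth proper curve is flat over the curve.
* `flat_over_P1`: `b : M ⟶ P` a blow-up, `p : P ⟶ P^1_S` flat, `M ⟶ S` flat and locally of finite
  presentation, the exceptional divisor flat over `S`: then `M ⟶ P^1_S` is flat.
-/

set_option autoImplicit false
universe u

open CategoryTheory CategoryTheory.Limits AlgebraicGeometry TopologicalSpace
open BlowUp Mero nonZeroDivisors
open Groth.Agent Groth.Agent.Divis

namespace K712.BlowFib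

theorem flat_of_regSub {M T : Scheme.{u}} (f : M ⟶ T) [IsIntegral T]
    (hT : ∀ t : T, IsPrincipalIdealRing (T.presheaf.stalk t))
    (h : ∀ (U : T.Opens) (s : Γ(T, U)), s ∈ regSub T U → f.app U s ∈ regSub M (f ⁻¹ᵁ U)) : Flat f := by
  apply Flat.of_stalkMap
  intro x
  have := hT (f x)
  algebraize [(f.stalkMap x).hom]
  change Module.Flat (T.presheaf.stalk (f x)) (M.presheaf.stalk x)
  rw [Module.Flat.flat_iff_torsion_eq_bot_of_isBezout, eq_bot_iff]
  rintro y ⟨⟨a, ha⟩, hy⟩
  obtain ⟨V, hxV, s, rfl⟩ := T.presheaf.exists_germ_eq a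
  have hs : s ∈ regSub T V := by
    rw [K473.MeroReg.mem_regSub_iff]
    intro t ht
    rw [mem_nonZeroDivisors_iff_ne_zero]
    intro h0
    have h1 : s = 0 := by
      apply germ_injective_of_isIntegral T t ht
      rw [map_zero]
      exact h0
    rw [h1, map_zero] at ha
    exact zero_notMem_nonZeroDivisors ha
  have h1 := h V s hs
  rw [K473.MeroReg.mem_regSub_iff] at h1
  have h2 := h1 x hxV
  rw [← Scheme.Hom.germ_stalkMap_apply f V x hxV s] at h2
  have h3 : (f.stalkMap x).hom (T.presheaf.germ V (f x) hxV s) * y = 0 := hy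
  exact (mem_nonZeroDivisors_iff_left.1 h2) y h3

theorem isPrincipal_stalk {k : Type u} [Field k] {T : Scheme.{u}} {τ : T ⟶ Spec (CommRingCat.of k)}
    (hT : Curve.IsSmoothProperCurve k T τ) (t : T) : IsPrincipalIdealRing (T.presheaf.stalk t) := by
  have h1 : Smooth τ := hT.2.1
  have h2 : IsRegularLocalRing (T.presheaf.stalk t) :=
    Dual.H375.LciLocus.isRegular_of_smooth (R := CommRingCat.of k) (Field.toIsField k) τ t
  exact (Ega43.DedekindOpen.isDomain_isPrincipalIdealRing_of_regular_dim_le_one _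
    (Sga7.H592.SncFinM.ringKrullDim_C_le_one hT t)).2

theorem flat_comp_of_curve {k : Type u} [Field k] {T : Scheme.{u}} {τ : T ⟶ Spec (CommRingCat.of k)}
    (hT : Curve.IsSmoothProperCurve k T τ) {P M : Scheme.{u}} (q : P ⟶ T) [Flat q] (b : M ⟶ P)
    (J : P.IdealSheafData) (hb : IsBlowUp b J) : Flat (b ≫ q) := by
  have : IsIntegral T := hT.2.2.1
  refine flat_of_regSub (b ≫ q) (isPrincipal_stalk hT) fun U s hs => ?_
  have h1 := K473.MeroReg.app_mem_regSub_of_isBlowUp hb (K473.MeroReg.app_mem_regSub_of_flat q hs)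
  rw [Scheme.Hom.comp_app]
  exact h1

section

variable {P M T S : Scheme.{u}} (b : M ⟶ P) (p : P ⟶ T) (r : T ⟶ S) (s : S)

theorem assoc_aux {F : Scheme.{u}} (m : F ⟶ M) : (m ≫ b) ≫ p ≫ r = m ≫ (b ≫ p) ≫ r := by
  simp only [Category.assoc]

/-- The fibre of `b`. -/
noncomputable def bs : ((b ≫ p) ≫ r).fiber s ⟶ (p ≫ r).fiber s :=
  pullback.lift (((b ≫ p) ≫ r).fiberι s ≫ b) (((b ≫ p) ≫ r).fiberToSpecResidueField s)
    ((assoc_aux b p r _).trans (((b ≫ p) ≫ r).fiber_fac s))

theorem bs_ι : bs b p r s ≫ (p ≫ r).fiberι s = ((b ≫ p) ≫ r).fiberι s ≫ b :=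
  pullback.lift_fst _ _ _

theorem bs_to : bs b p r s ≫ (p ≫ r).fiberToSpecResidueField s =
    ((b ≫ p) ≫ r).fiberToSpecResidueField s :=
  pullback.lift_snd _ _ _

theorem isPullback_fiber {X Y : Scheme.{u}} (f : X ⟶ Y) (y : Y) :
    IsPullback (f.fiberι y) (f.fiberToSpecResidueField y) f (Y.fromSpecResidueField y) :=
  IsPullback.of_hasPullback _ _

theorem isPullback_bs : IsPullback (((b ≫ p) ≫ r).fiberι s) (bs b p r s) b ((p ≫ r).fiberι s) := by
  have h1 : IsPullback (((b ≫ p) ≫ r).fiberι s)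
      (bs b p r s ≫ (p ≫ r).fiberToSpecResidueField s) (b ≫ p ≫ r) (S.fromSpecResidueField s) := by
    rw [bs_to, ← Category.assoc]
    exact isPullback_fiber _ s
  exact IsPullback.of_bot h1 (bs_ι b p r s).symm (isPullback_fiber (p ≫ r) s)

theorem fiberMap_ι : MoreMor.fiberMap p r s ≫ r.fiberι s = (p ≫ r).fiberι s ≫ p :=
  pullback.lift_fst _ _ _

theorem fiberMap_to : MoreMor.fiberMap p r s ≫ r.fiberToSpecResidueField s =
    (p ≫ r).fiberToSpecResidueField s :=
  pullback.lift_snd _ _ _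

theorem isPullback_fiberMap : IsPullback ((p ≫ r).fiberι s) (MoreMor.fiberMap p r s) p (r.fiberι s) := by
  have h1 : IsPullback ((p ≫ r).fiberι s)
      (MoreMor.fiberMap p r s ≫ r.fiberToSpecResidueField s) (p ≫ r) (S.fromSpecResidueField s) := by
    rw [fiberMap_to]
    exact isPullback_fiber _ s
  exact IsPullback.of_bot h1 (fiberMap_ι p r s).symm (isPullback_fiber r s)

theorem fiberMap_comp : MoreMor.fiberMap (b ≫ p) r s = bs b p r s ≫ MoreMor.fiberMap p r s := by
  apply (isPullback_fiber r s).hom_ext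
  · refine (fiberMap_ι (b ≫ p) r s).trans ?_
    have h1 := Category.assoc (bs b p r s) (MoreMor.fiberMap p r s) (r.fiberι s)
    refine Eq.trans ?_ h1.symm
    rw [fiberMap_ι]
    have h2 := Category.assoc (bs b p r s) ((p ≫ r).fiberι s) p
    refine Eq.trans ?_ h2
    rw [bs_ι]
    exact (Category.assoc _ _ _).symm
  · refine (fiberMap_to (b ≫ p) r s).trans ?_
    have h1 := Category.assoc (bs b p r s) (MoreMor.fiberMap p r s) (r.fiberToSpecResidueField s)
    refine Eq.trans ?_ h1.symm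
    rw [fiberMap_to, bs_to]

theorem isBlowUp_bs {J : P.IdealSheafData} (hb : IsBlowUp b J)
    (hE : Flat ((exceptional b J).subschemeι ≫ b ≫ p ≫ r)) :
    IsBlowUp (bs b p r s) (J.comap ((p ≫ r).fiberι s)) :=
  DefoBase.isBlowUp_baseChange b (p ≫ r) J hb hE (S.fromSpecResidueField s) ((p ≫ r).fiberι s)
    ((p ≫ r).fiberToSpecResidueField s) (isPullback_fiber _ s) (((b ≫ p) ≫ r).fiberι s) (bs b p r s)
    (isPullback_bs b p r s)

end

theorem flat_fiberMap {P M S : Scheme.{u}} (b : M ⟶ P) {J : P.IdealSheafData} (hb : IsBlowUp b J)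
    (p : P ⟶ CohB1.ProjSpaceOver 1 S) [Flat p]
    (hE : Flat ((exceptional b J).subschemeι ≫ b ≫ p ≫ CohB1.ProjSpaceOver.toBase 1 S)) (s : S) :
    Flat (MoreMor.fiberMap (b ≫ p) (CohB1.ProjSpaceOver.toBase 1 S) s) := by
  have hT : Curve.IsSmoothProperCurve (S.residueField s)
      ((CohB1.ProjSpaceOver.toBase 1 S).fiber s)
      ((CohB1.ProjSpaceOver.toBase 1 S).fiberToSpecResidueField s) :=
    Sga4B.P1Curve.isSmoothProperCurve_of_isPullback (S.residueField s)
      (isPullback_fiber (CohB1.ProjSpaceOver.toBase 1 S) s)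
  have hp : Flat (MoreMor.fiberMap p (CohB1.ProjSpaceOver.toBase 1 S) s) :=
    MorphismProperty.of_isPullback (P := @Flat) (isPullback_fiberMap p _ s) inferInstance
  rw [fiberMap_comp]
  exact flat_comp_of_curve hT _ _ _ (isBlowUp_bs b p _ s hb hE)

/-- **Flatness over `P^1_S`.** -/
theorem flat_over_P1 {P M S : Scheme.{u}} (b : M ⟶ P) {J : P.IdealSheafData} (hb : IsBlowUp b J)
    (p : P ⟶ CohB1.ProjSpaceOver 1 S) [Flat p] [LocallyOfFinitePresentation p]
    [LocallyOfFinitePresentation b]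
    (hE : Flat ((exceptional b J).subschemeι ≫ b ≫ p ≫ CohB1.ProjSpaceOver.toBase 1 S)) :
    Flat (b ≫ p) := by
  have h0 : Smooth (CohB1.ProjSpaceOver.toBase 1 S) := inferInstance
  have h1 : Flat (b ≫ p ≫ CohB1.ProjSpaceOver.toBase 1 S) := by
    have : Flat (p ≫ CohB1.ProjSpaceOver.toBase 1 S) := inferInstance
    exact BlowGeo.flat_comp hb _ hE
  have h2 : Flat ((b ≫ p) ≫ CohB1.ProjSpaceOver.toBase 1 S) := by rw [Category.assoc]; exact h1
  apply Flat.of_stalkMap
  intro x
  exact (K633.FlatCore.flat_of_fibres_lfp (b ≫ p) (CohB1.ProjSpaceOver.toBase 1 S)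
    (flat_fiberMap b hb p hE) x).2

end K712.BlowFib
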