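import Groth.Agent.IntTh.K712.SectSec
import Groth.Agent.Krr.H501.DefP1
import Groth.Agent.S2896
import Groth.Agent.S2894
import Groth.Prelude.Def_RegImm

/-!
# Deformation to the normal cone: the exceptional divisor is flat over the base, base change
-/

set_option autoImplicit false
universe u
open CategoryTheory CategoryTheory.Limits AlgebraicGeometry

namespace K712.DefoBase

open Groth.Agent Groth.Agent.Krr.H501.RegLen Groth.Agent.Krr.H458.SecP1 Groth.Agent.Krr.H501.DefP1
open K712.SectSec Groth.Agent.Divis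

/-- A closed immersion which is regular of codimension `c` in the sense of `RegImm`. -/
theorem regAtLen_of_regImm {X Y : Scheme.{u}} {i : Y ⟶ X} [IsClosedImmersion i] {c : ℕ}
    (hi : RegImm.IsRegularImmersionOfCodim RegImm.Kind.regular c i) (y : Y) :
    RegAtLen i.ker c (i y) := by
  obtain ⟨U, hy, -, rs, hl, hrs, hI⟩ := hi.2 y
  exact ⟨U, hy, rs, (show RingTheory.Sequence.IsRegular Γ(X, U.1) rs from hrs).toIsWeaklyRegular, hl,
    by rw [← hI]; exact i.ker_apply U⟩

/-- Converse: weakly regular local equations at all points of the closed subscheme. -/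
theorem regImm_of_regAtLen {X Y : Scheme.{u}} {i : Y ⟶ X} [IsClosedImmersion i] {c : ℕ}
    (h : ∀ y, RegAtLen i.ker c (i y)) :
    RegImm.IsRegularImmersionOfCodim RegImm.Kind.regular c i := by
  refine ⟨inferInstance, fun y => ?_⟩
  obtain ⟨U, hy, rs, hrs, hl, hI⟩ := h y
  have hI' : RingHom.ker (i.app U.1).hom = Ideal.ofList rs := by
    rw [← hI]; exact (i.ker_apply U).symm
  refine ⟨U, hy, inferInstance, rs, hl, ?_, hI'⟩
  refine ⟨hrs, ?_⟩
  intro htop
  have h1 : (1 : Γ(X, U.1)) ∈ Ideal.ofList rs := by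
    have : (1 : Γ(X, U.1)) ∈ (⊤ : Submodule Γ(X, U.1) Γ(X, U.1)) := trivial
    rw [htop, smul_eq_mul, Ideal.mul_top] at this
    exact this
  rw [← hI', RingHom.mem_ker, map_one] at h1
  have h2 : IsUnit ((0 : Γ(Y, i ⁻¹ᵁ U.1))) := h1 ▸ isUnit_one
  have h3 := (Y.mem_basicOpen (0 : Γ(Y, i ⁻¹ᵁ U.1)) y hy).2 (h2.map (Y.presheaf.germ _ y hy).hom)
  rw [Scheme.basicOpen_zero] at h3
  exact h3

/-- Regular immersion from weakly regular local equations of arbitrary lengths. -/
theorem regImm_of_regAt {X Y : Scheme.{u}} {i : Y ⟶ X} [IsClosedImmersion i]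
    (h : ∀ y, ∃ c, RegAtLen i.ker c (i y)) : RegImm.IsRegularImmersion RegImm.Kind.regular i := by
  refine ⟨inferInstance, fun y => ?_⟩
  obtain ⟨c, U, hy, rs, hrs, hl, hI⟩ := h y
  have hI' : RingHom.ker (i.app U.1).hom = Ideal.ofList rs := by
    rw [← hI]; exact (i.ker_apply U).symm
  refine ⟨U, hy, inferInstance, rs, ?_, hI'⟩
  refine ⟨hrs, ?_⟩
  intro htop
  have h1 : (1 : Γ(X, U.1)) ∈ Ideal.ofList rs := by
    have : (1 : Γ(X, U.1)) ∈ (⊤ : Submodule Γ(X, U.1) Γ(X, U.1)) := trivial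
    rw [htop, smul_eq_mul, Ideal.mul_top] at this
    exact this
  rw [← hI', RingHom.mem_ker, map_one] at h1
  have h2 : IsUnit ((0 : Γ(Y, i ⁻¹ᵁ U.1))) := h1 ▸ isUnit_one
  have h3 := (Y.mem_basicOpen (0 : Γ(Y, i ⁻¹ᵁ U.1)) y hy).2 (h2.map (Y.presheaf.germ _ y hy).hom)
  rw [Scheme.basicOpen_zero] at h3
  exact h3

/-- The centre `Y × ∞` is regular. -/
theorem regAtLen_center {X Y : Scheme.{u}} (i : Y ⟶ X) [IsClosedImmersion i] {c : ℕ}
    (hi : ∀ y, RegAtLen i.ker c (i y)) (j : Fin 2) (y : Y) :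
    RegAtLen (i ≫ sec j X).ker (1 + c) ((i ≫ sec j X) y) :=
  RegAtLen.comp i (sec j X) (hi y) (regAtLen_of_isEff (isEff_idl j X) _)

theorem isRegular_of_regAtLen {X Y : Scheme.{u}} (i : Y ⟶ X) [IsClosedImmersion i] {c : ℕ}
    (hi : ∀ y, RegAtLen i.ker c (i y)) : Mor2.IsRegularClosedImmersion i :=
  ((isRegular_and_rank_iff i c).2 hi).1

/-- The exceptional divisor of the blow-up of a regular closed immersion with flat source over the
base is flat over the base. -/
theorem flat_exceptional {P M Z S : Scheme.{u}} (g : P ⟶ S) (z : Z ⟶ P)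
    (hz : Mor2.IsRegularClosedImmersion z) [Flat (z ≫ g)] (b : M ⟶ P) (hb : BlowUp.IsBlowUp b z.ker) :
    Flat ((BlowUp.exceptional b z.ker).subschemeι ≫ b ≫ g) := by
  have := hz.1
  have h1 : z.ker ≤ ((BlowUp.exceptional b z.ker).subschemeι ≫ b).ker := by
    rw [Scheme.Hom.ker_comp, Scheme.IdealSheafData.ker_subschemeι,
      Scheme.IdealSheafData.le_map_iff_comap_le]
  let r := IsClosedImmersion.lift z ((BlowUp.exceptional b z.ker).subschemeι ≫ b) h1
  have hr : r ≫ z = (BlowUp.exceptional b z.ker).subschemeι ≫ b := IsClosedImmersion.lift_fac _ _ _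
  have h2 : Smooth r := S2894.result z hz b hb r hr
  have h3 : (BlowUp.exceptional b z.ker).subschemeι ≫ b ≫ g = r ≫ z ≫ g := by
    rw [← Category.assoc, ← hr, Category.assoc]
  rw [h3]
  infer_instance

theorem isBlowUp_baseChange {M P S S' M' P' : Scheme.{u}} (b : M ⟶ P) (g : P ⟶ S)
    (𝓘 : P.IdealSheafData) (hb : BlowUp.IsBlowUp b 𝓘)
    (hfl : Flat ((BlowUp.exceptional b 𝓘).subschemeι ≫ b ≫ g)) (h : S' ⟶ S) (gP : P' ⟶ P)
    (g' : P' ⟶ S') (hP : IsPullback gP g' g h) (μ : M' ⟶ M) (b' : M' ⟶ P')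
    (hM : IsPullback μ b' b gP) : BlowUp.IsBlowUp b' (𝓘.comap gP) := by
  have hB := S2896.part2 g 𝓘 b hb hfl S' h
  have hB1 : CInt.baseChangeOver b g h ≫ pullback.fst g h = pullback.fst (b ≫ g) h ≫ b :=
    pullback.lift_fst _ _ _
  have hB2 : CInt.baseChangeOver b g h ≫ pullback.snd g h = pullback.snd (b ≫ g) h :=
    (pullback.lift_snd _ _ _).trans (Category.comp_id _)
  have sq1 : IsPullback (pullback.fst (b ≫ g) h) (CInt.baseChangeOver b g h) b (pullback.fst g h) := by
    have h2 : IsPullback (pullback.fst (b ≫ g) h) (CInt.baseChangeOver b g h ≫ pullback.snd g h)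
        (b ≫ g) h := by
      rw [hB2]; exact IsPullback.of_hasPullback _ _
    exact IsPullback.of_bot h2 hB1.symm (IsPullback.of_hasPullback g h)
  let e := hP.isoPullback
  have he : e.hom ≫ pullback.fst g h = gP := hP.isoPullback_hom_fst
  have hM' : IsPullback μ b' b (e.hom ≫ pullback.fst g h) := by rw [he]; exact hM
  let eM : M' ⟶ pullback (b ≫ g) h := sq1.lift μ (b' ≫ e.hom) (by rw [Category.assoc, he, hM.w])
  have h1 : eM ≫ pullback.fst (b ≫ g) h = μ := sq1.lift_fst _ _ _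
  have h2 : eM ≫ CInt.baseChangeOver b g h = b' ≫ e.hom := sq1.lift_snd _ _ _
  have sq2 : IsPullback eM b' (CInt.baseChangeOver b g h) e.hom := by
    have h3 : IsPullback (eM ≫ pullback.fst (b ≫ g) h) b' b (e.hom ≫ pullback.fst g h) := by
      rw [h1]; exact hM'
    exact IsPullback.of_right h3 h2 sq1
  have h4 := BlowUpFormal.isBlowUp_of_isPullback hB sq2
  rwa [← Scheme.IdealSheafData.comap_comp, he] at h4

end K712.DefoBase
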