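import Groth.Agent.IntTh.K712.StrictAlg
import Groth.Agent.BlowUp.K484.StrictClosed
import Groth.Agent.Krr.H501.RegLen
import Groth.Agent.Ega4dB.AffBlowFlat
import Groth.Agent.Fga.HilbClosed

/-!
# The strict transform of a regular closed subscheme

`i : V ⟶ W` a closed immersion regular of codimension `c`, `J` the ideal of a closed subscheme of
`V`, regular in `V`; the strict transform `k : M' ⟶ M` of `V` in the blow-up `M` of `W` in `J` is
regular of codimension `c`.
-/

set_option autoImplicit false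
universe u

open CategoryTheory AlgebraicGeometry TopologicalSpace BlowUp RingTheory.Sequence
open Groth.Agent Groth.Agent.Divis Groth.Agent.Divis.BlowChart2 Groth.Agent.Divis.IdealComap
open Groth.Agent.Krr.H501.RegLen K484.StrictClosed K712.StrictAlg

namespace K712.StrictGeo

theorem isFrac_chart {X X' : Scheme.{u}} (b : X' ⟶ X) (J : X.IdealSheafData) (hb : IsBlowUp b J)
    (U : X.affineOpens) {a : Γ(X, U.1)} (ha : a ∈ J.ideal U) (V : X'.Opens) (hV : V = chart b J U a)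
    (hle : V ≤ b ⁻¹ᵁ U.1) : IsFrac (b.appLE U.1 V hle).hom a := by
  subst hV
  refine ⟨fun β hβ => ?_, fun β => ?_, fun m hm => ?_⟩
  · exact (mul_left_mem_nonZeroDivisors_eq_zero_iff (appLE_chart_mem_nonZeroDivisors b J U hb ha)).1 hβ
  · obtain ⟨n, m, -, h⟩ := exists_pow_mul_eq_appLE b J U hb ha β
    exact ⟨n, m, h⟩
  · obtain ⟨θ, hθ⟩ := exists_ringEquiv_chart b J U hb ha
    apply (Ega4dB.AffBlowFlat.affBlow_affineAlgebra (J.ideal U) a ha).eq_zero
    apply θ.injective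
    rw [map_zero, hθ]
    exact hm

variable {W V M M' : Scheme.{u}} (b : M ⟶ W) (J : W.IdealSheafData) (hb : IsBlowUp b J)
  (i : V ⟶ W) [IsClosedImmersion i] (b' : M' ⟶ V) (hb' : IsBlowUp b' (J.comap i))
  (k : M' ⟶ M) (hk : k ≫ b = b' ≫ i)

include hb hb' hk in
theorem regAtLen_strict (m' : M') (U : W.affineOpens) (hU : b (k m') ∈ U.1) {d : ℕ}
    (f : Fin (d + 1) → Γ(W, U.1)) (hf : IsWeaklyRegular Γ(W, U.1) (List.ofFn f)) (c : ℕ)
    (hc : c ≤ d + 1) (hi : i.ker.ideal U = Ideal.ofList ((List.ofFn f).take c))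
    (hJ : J.ideal U = Ideal.span (Set.range f)) : RegAtLen k.ker c (k m') := by
  have := isClosedImmersion b J hb i b' hb' k hk
  let U' : V.affineOpens := ⟨i ⁻¹ᵁ U.1, U.2.preimage i⟩
  obtain ⟨a, ⟨k₀, rfl⟩, hm⟩ := exists_mem_chart_of_span b J U hb.1 hJ (k m') hU
  have ha : f k₀ ∈ J.ideal U := by rw [hJ]; exact Ideal.subset_span ⟨k₀, rfl⟩
  have hpre := preimage_chart b J hb.1 b' i k hk hb'.1 U U' rfl ha
  have ha' : (i.appLE U.1 U'.1 le_rfl).hom (f k₀) ∈ (J.comap i).ideal U' := by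
    rw [ideal_comap J i U U' le_rfl]
    exact Ideal.mem_map_of_mem _ ha
  have hle' : k ⁻¹ᵁ chart b J U (f k₀) ≤ b' ⁻¹ᵁ U'.1 := by
    rw [hpre]; exact chart_le _ _ _ _
  have hF := isFrac_chart b J hb U ha _ rfl (chart_le b J U (f k₀))
  have hF' := isFrac_chart b' (J.comap i) hb' U' ha' _ hpre hle'
  have hcomm : ∀ m : Γ(W, U.1), (k.app (chart b J U (f k₀))).hom
        ((b.appLE U.1 (chart b J U (f k₀)) (chart_le b J U (f k₀))).hom m) =
      (b'.appLE U'.1 (k ⁻¹ᵁ chart b J U (f k₀)) hle').hom ((i.appLE U.1 U'.1 le_rfl).hom m) := by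
    intro m
    have h1 : b.appLE U.1 (chart b J U (f k₀)) (chart_le b J U (f k₀)) ≫
        k.app (chart b J U (f k₀)) =
        i.appLE U.1 U'.1 le_rfl ≫ b'.appLE U'.1 (k ⁻¹ᵁ chart b J U (f k₀)) hle' := by
      rw [Scheme.Hom.appLE_comp_appLE, ← Scheme.Hom.appLE_eq_app, Scheme.Hom.appLE_comp_appLE]
      congr 1
    exact congr($(congrArg CommRingCat.Hom.hom h1) m)
  have hφ : RingHom.ker (i.appLE U.1 U'.1 le_rfl).hom = Ideal.ofList ((List.ofFn f).take c) := by
    rw [← hi, Scheme.Hom.appLE_eq_app]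
    exact (i.ker_apply U).symm
  have hck : c ≤ k₀ := by
    by_contra hlt
    push Not at hlt
    have h0 : (i.appLE U.1 U'.1 le_rfl).hom (f k₀) = 0 := by
      rw [← RingHom.mem_ker, hφ]
      apply Ideal.subset_span
      change f k₀ ∈ (List.ofFn f).take c
      rw [List.mem_take_iff_getElem]
      exact ⟨k₀, by rw [List.length_ofFn]; omega, by rw [List.getElem_ofFn]⟩
    have h1 := hF'.cancel 1 (by rw [h0, map_zero, zero_mul])
    have h2 : m' ∈ k ⁻¹ᵁ chart b J U (f k₀) := hm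
    have h3 := (M'.mem_basicOpen (1 : Γ(M', k ⁻¹ᵁ chart b J U (f k₀))) m' h2).2
      ((isUnit_one).map (M'.presheaf.germ _ m' h2).hom)
    rw [h1, Scheme.basicOpen_zero] at h3
    exact h3
  obtain ⟨x, hx1, hx2⟩ := exists_chart_list f k₀ c hck hf (J.ideal U) hJ
  obtain ⟨θ, hθ⟩ := exists_ringEquiv_chart b J U hb ha
  have hx1' : List.Forall₂ (fun s x => (b.appLE U.1 (chart b J U (f k₀)) (chart_le b J U (f k₀))).hom
      (f k₀) * x = (b.appLE U.1 (chart b J U (f k₀)) (chart_le b J U (f k₀))).hom s)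
      ((List.ofFn f).take c) (x.map θ) := by
    rw [List.forall₂_map_right_iff]
    refine hx1.imp fun s y h => ?_
    rw [← hθ, ← hθ, ← map_mul, h]
  have hx2' : IsWeaklyRegular Γ(M, chart b J U (f k₀))
      ((b.appLE U.1 (chart b J U (f k₀)) (chart_le b J U (f k₀))).hom (f k₀) :: x.map θ) := by
    have h1 := RegImm.isWeaklyRegular_map_of_flat θ.toRingHom
      (RingHom.Flat.of_bijective θ.bijective) hx2
    rw [List.map_cons] at h1
    rw [← hθ (f k₀)]
    exact h1
  have hs : IsWeaklyRegular Γ(W, U.1) ((List.ofFn f).take c) := by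
    have h2 := hf
    rw [← List.take_append_drop c (List.ofFn f), isWeaklyRegular_append_iff] at h2
    exact h2.1
  obtain ⟨h1, h2⟩ := hF.main hx1' hs hx2'
  refine ⟨⟨chart b J U (f k₀), isAffineOpen_chart b J U hb ha⟩, hm, x.map θ, h1, ?_, ?_⟩
  · rw [← hx1'.length_eq]
    simp
    omega
  · rw [k.ker_apply]
    exact hF.ker_eq hF' hcomm hx1' hφ h2

include hb hb' hk in
theorem regAtLen_strict_list (m' : M') (U : W.affineOpens) (hU : b (k m') ∈ U.1)
    (L : List Γ(W, U.1)) (hL0 : L ≠ []) (hL : IsWeaklyRegular Γ(W, U.1) L) (c : ℕ)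
    (hc : c ≤ L.length) (hi : i.ker.ideal U = Ideal.ofList (L.take c))
    (hJ : J.ideal U = Ideal.ofList L) : RegAtLen k.ker c (k m') := by
  obtain ⟨d, hd⟩ : ∃ d, L.length = d + 1 :=
    ⟨L.length - 1, by have := List.length_pos_iff.2 hL0; omega⟩
  have hLf : L = List.ofFn (fun j : Fin (d + 1) => L.get (j.cast hd.symm)) := by
    apply List.ext_get
    · rw [List.length_ofFn, hd]
    · intro n h1 h2
      rw [List.get_eq_getElem, List.get_eq_getElem, List.getElem_ofFn]
      rfl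
  refine regAtLen_strict b J hb i b' hb' k hk m' U hU (fun j : Fin (d + 1) => L.get (j.cast hd.symm))
    (by rw [← hLf]; exact hL) c (by omega) (by rw [← hLf]; exact hi) ?_
  rw [hJ, Sga67.KosImm.Chart.ofList_eq_span]
  congr 1
  ext a
  constructor
  · rintro ⟨j, rfl⟩
    exact ⟨j.cast hd, rfl⟩
  · rintro ⟨j, rfl⟩
    exact ⟨j.cast hd.symm, rfl⟩

theorem exists_local {D : Scheme.{u}} (z : D ⟶ V) [IsClosedImmersion z] (c e : ℕ) (v : V)
    (hi : RegAtLen i.ker c (i v)) (hz : ∀ δ, RegAtLen z.ker (1 + e) (z δ)) :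
    ∃ U : W.affineOpens, i v ∈ U.1 ∧ ∃ L : List Γ(W, U.1), L ≠ [] ∧ IsWeaklyRegular Γ(W, U.1) L ∧
      c ≤ L.length ∧ i.ker.ideal U = Ideal.ofList (L.take c) ∧
      (z ≫ i).ker.ideal U = Ideal.ofList L := by
  by_cases hv : v ∈ Set.range z
  · obtain ⟨δ, rfl⟩ := hv
    obtain ⟨V₀, hzV, ss₀, hss₀, hl₀, hJ₀⟩ := hz δ
    obtain ⟨O, hO⟩ : ∃ O : W.Opens, i ⁻¹ᵁ O = V₀.1 := by
      obtain ⟨O, hO, hOV⟩ := i.isClosedEmbedding.isInducing.isOpen_iff.mp V₀.1.2
      exact ⟨⟨O, hO⟩, TopologicalSpace.Opens.ext hOV⟩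
    obtain ⟨U, hxU, hUO, rs, hrs, hl, hI⟩ := hi.exists_le O (by
      change z δ ∈ i ⁻¹ᵁ O
      rw [hO]; exact hzV)
    obtain ⟨hss, hJ⟩ := exists_of_le (V := ⟨i ⁻¹ᵁ U.1, U.2.preimage i⟩)
      (by rw [← hO]; exact fun x hx ↦ hUO hx) hss₀ hJ₀
    have hsurj : Function.Surjective (i.app U.1).hom := i.app_surjective U.1 U.2
    obtain ⟨ts, hts⟩ := RegImm.exists_lift_list _ hsurj (ss₀.map (V.presheaf.map
      (homOfLE (show i ⁻¹ᵁ U.1 ≤ V₀.1 by rw [← hO]; exact fun x hx ↦ hUO hx)).op).hom)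
    rw [← hts] at hss hJ
    have hker : RingHom.ker (i.app U.1).hom = Ideal.ofList rs := by
      rw [← Scheme.Hom.ker_apply, hI]
    have hlt : ts.length = 1 + e := by
      have h1 := congrArg List.length hts
      rw [List.length_map, List.length_map] at h1
      rw [h1, hl₀]
    refine ⟨U, hxU, rs ++ ts, ?_,
      (RegImm.isWeaklyRegular_append_of_surjective _ hsurj rs ts hker).mpr ⟨hrs, hss⟩, ?_, ?_, ?_⟩
    · intro h
      have := congrArg List.length h
      rw [List.length_append, List.length_nil] at this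
      omega
    · rw [List.length_append]; omega
    · rw [List.take_left' hl, hI]
    · rw [Scheme.Hom.ker_comp, Scheme.IdealSheafData.ideal_map_of_isAffineHom, hJ,
        RegImm.comap_ofList_map_of_surjective _ hsurj rs ts hker]
  · have hcl : IsClosed (Set.range (z ≫ i)) := (z ≫ i).isClosedEmbedding.isClosed_range
    let O : W.Opens := ⟨(Set.range (z ≫ i))ᶜ, hcl.isOpen_compl⟩
    have hvO : i v ∈ O := by
      rintro ⟨δ, hδ⟩
      rw [Scheme.Hom.comp_apply] at hδ
      exact hv ⟨δ, i.isClosedEmbedding.injective hδ⟩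
    obtain ⟨U, hxU, hUO, rs, hrs, hl, hI⟩ := hi.exists_le O hvO
    have hker : RingHom.ker (i.app U.1).hom = Ideal.ofList rs := by
      rw [← Scheme.Hom.ker_apply, hI]
    refine ⟨U, hxU, rs ++ [1], by simp, ?_, by simp; omega, ?_, ?_⟩
    · rw [RegImm.isWeaklyRegular_append_of_surjective _ (i.app_surjective U.1 U.2) rs [1] hker]
      refine ⟨hrs, ?_⟩
      rw [List.map_singleton, map_one, isWeaklyRegular_singleton_iff]
      intro a b hab
      simpa using hab
    · rw [List.take_left' hl, hI]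
    · have hbot : (z ≫ i) ⁻¹ᵁ U.1 = ⊥ := by
        rw [eq_bot_iff]
        intro δ hδ
        exact absurd ⟨δ, rfl⟩ (hUO hδ)
      have hsub : Subsingleton Γ(D, (z ≫ i) ⁻¹ᵁ U.1) := by rw [hbot]; infer_instance
      rw [Scheme.Hom.ker_apply]
      have h1 : (1 : Γ(W, U.1)) ∈ RingHom.ker ((z ≫ i).app U.1).hom := Subsingleton.elim _ _
      rw [(Ideal.eq_top_iff_one _).2 h1, eq_comm, Ideal.eq_top_iff_one]
      exact Ideal.subset_span (by simp)

theorem ker_comp_comap {D : Scheme.{u}} (z : D ⟶ V) [IsClosedImmersion z] :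
    (z ≫ i).ker.comap i = z.ker := by
  have h : IsPullback (𝟙 D) z (z ≫ i) i := by
    refine ⟨⟨by simp⟩, ⟨Limits.PullbackCone.IsLimit.mk _ (fun s => s.fst) (fun s => by simp)
      (fun s => ?_) (fun s m h1 _ => by simpa using h1)⟩⟩
    rw [← cancel_mono i, Category.assoc, s.condition]
  have h2 := Fga.HilbClosed.ker_of_isPullback h
  exact h2.symm

include hk in
/-- **The strict transform of a regular closed subscheme is regular of the same codimension.** -/
theorem main {D : Scheme.{u}} (z : D ⟶ V) [IsClosedImmersion z] (c e : ℕ)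
    (hi : ∀ v, RegAtLen i.ker c (i v)) (hz : ∀ δ, RegAtLen z.ker (1 + e) (z δ))
    (hb : IsBlowUp b (z ≫ i).ker) (hb' : IsBlowUp b' z.ker) :
    IsClosedImmersion k ∧ ∀ m', RegAtLen k.ker c (k m') := by
  have hb'' : IsBlowUp b' ((z ≫ i).ker.comap i) := by rw [ker_comp_comap]; exact hb'
  refine ⟨isClosedImmersion b _ hb i b' hb'' k hk, fun m' => ?_⟩
  obtain ⟨U, hU, L, h0, h1, h2, h3, h4⟩ := exists_local i z c e (b' m') (hi _) hz
  refine regAtLen_strict_list b _ hb i b' hb'' k hk m' U ?_ L h0 h1 c h2 h3 h4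
  rw [← Scheme.Hom.comp_apply, hk, Scheme.Hom.comp_apply]
  exact hU

end K712.StrictGeo
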