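import Groth.Agent.IntTh.K712.BlowFP
import Groth.Agent.IntTh.K712.StrictGeo
import Groth.Agent.IntTh.K712.DefoBase
import Groth.Agent.Ega2.BlowBasic
import Groth.Agent.Sga5.H855.Geom
import Groth.Agent.S1703
import Mathlib.AlgebraicGeometry.Morphisms.FinitePresentation

/-!
# The blow-up of a regular ideal: finite presentation, surjectivity, flatness over a base
-/

set_option autoImplicit false
universe u

open CategoryTheory CategoryTheory.Limits AlgebraicGeometry TopologicalSpace
open BlowUp RingTheory.Sequence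
open Groth.Agent Groth.Agent.Divis Groth.Agent.Divis.BlowChart Groth.Agent.Divis.BlowChart2
open Groth.Agent.Krr.H501.RegLen Groth.Agent.Ega2.BlowBasic

namespace K712.BlowGeo

/-- Around every point the ideal is generated by a nonempty weakly regular sequence. -/
def Reg1 {P : Scheme.{u}} (J : P.IdealSheafData) : Prop :=
  ∀ w : P, ∃ U : P.affineOpens, w ∈ U.1 ∧ ∃ L : List Γ(P, U.1), L ≠ [] ∧
    IsWeaklyRegular Γ(P, U.1) L ∧ J.ideal U = Ideal.ofList L

theorem reg1_of_regAtLen {D P : Scheme.{u}} (z : D ⟶ P) [IsClosedImmersion z] {e : ℕ}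
    (hz : ∀ δ, RegAtLen z.ker (1 + e) (z δ)) : Reg1 z.ker := by
  intro w
  have hi : RegAtLen (𝟙 P : P ⟶ P).ker 0 ((𝟙 P : P ⟶ P) w) := by
    obtain ⟨_, ⟨U, hU, rfl⟩, hxU, -⟩ :=
      P.isBasis_affineOpens.exists_subset_of_mem_open (Set.mem_univ w) isOpen_univ
    refine ⟨⟨U, hU⟩, hxU, [], ?_, rfl, ?_⟩
    · exact IsWeaklyRegular.nil _ _
    · rw [Ideal.ofList_nil, Scheme.Hom.ker_apply, RingHom.ker_eq_bot_iff_eq_zero]
      intro x hx
      exact hx
  obtain ⟨U, hU, L, h0, h1, -, -, h2⟩ := StrictGeo.exists_local (𝟙 P) z 0 e w hi hz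
  rw [Category.comp_id] at h2
  exact ⟨U, hU, L, h0, h1, h2⟩

theorem locallyOfFinitePresentation {P M : Scheme.{u}} {b : M ⟶ P} {J : P.IdealSheafData}
    (hb : IsBlowUp b J) (h : Reg1 J) : LocallyOfFinitePresentation b := by
  have key : ∀ x' : M, ∃ V : M.Opens, x' ∈ V ∧ LocallyOfFinitePresentation (V.ι ≫ b) := by
    intro x'
    obtain ⟨U, hxU, L, hL0, hL, hJ⟩ := h (b x')
    obtain ⟨c, hc⟩ : ∃ c, L.length = c := ⟨_, rfl⟩
    subst hc
    let f : Fin L.length → Γ(P, U.1) := fun j => L.get j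
    have hLf : L = List.ofFn f := (List.ofFn_get L).symm
    have hJ' : J.ideal U = Ideal.span (Set.range f) := by
      rw [hJ, Sga67.KosImm.Chart.ofList_eq_span]
    obtain ⟨a, ⟨k, rfl⟩, hm⟩ := exists_mem_chart_of_span b J U hb.1 hJ' x' hxU
    have ha : f k ∈ J.ideal U := by rw [hJ']; exact Ideal.subset_span ⟨k, rfl⟩
    refine ⟨chart b J U (f k), hm, ?_⟩
    obtain ⟨e, he⟩ := exists_iso_chart b J U hb ha
    rw [← he]
    have h1 : LocallyOfFinitePresentation (chartMap (J.ideal U) (f k)) := by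
      unfold chartMap
      rw [HasRingHomProperty.Spec_iff (P := @LocallyOfFinitePresentation)]
      rw [hLf] at hL
      have := BlowFP.finitePresentation f k hL
      rw [← hJ'] at this
      exact RingHom.finitePresentation_algebraMap.mpr this
    infer_instance
  choose V hxV hV using key
  exact (IsZariskiLocalAtSource.iff_of_iSup_eq_top (P := @LocallyOfFinitePresentation) V
    (top_le_iff.mp fun x _ => TopologicalSpace.Opens.mem_iSup.mpr ⟨x, hxV x⟩)).mpr hV

theorem dense_offSupport {P : Scheme.{u}} {J : P.IdealSheafData} (h : Reg1 J) :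
    Dense (offSupport J : Set P) := by
  rw [dense_iff_inter_open]
  rintro V hV ⟨x, hx⟩
  obtain ⟨W, hxW, L, hL0, hL, hJ⟩ := h x
  obtain ⟨f, l, rfl⟩ := List.exists_cons_of_ne_nil hL0
  have hf : ∀ y, f * y = 0 → y = 0 := by
    rw [isWeaklyRegular_cons_iff] at hL
    intro y hy
    exact hL.1.right_eq_zero_of_smul hy
  have hle : P.basicOpen f ≤ offSupport J := by
    intro y hy
    have hyW := P.basicOpen_le f hy
    rw [mem_offSupport, Scheme.IdealSheafData.mem_support_iff_of_mem hyW, hJ]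
    intro h1
    have h2 : f ∈ (Ideal.ofList (f :: l) : Ideal Γ(P, W.1)) := Ideal.subset_span (by simp)
    rw [Scheme.mem_zeroLocus_iff] at h1
    exact h1 f h2 hy
  obtain ⟨g, hg, hxg⟩ := W.2.exists_basicOpen_le (V := (⟨V, hV⟩ : P.Opens)) ⟨x, hx⟩ hxW
  have hne : (P.basicOpen (f * g)) ≠ ⊥ := by
    intro h0
    rw [← Scheme.isNilpotent_iff_basicOpen_eq_bot_of_isCompact W.2.isCompact] at h0
    obtain ⟨n, hn⟩ := h0
    rw [mul_pow] at hn
    have hgn : g ^ n = 0 := by
      have h3 : ∀ (m : ℕ) (y : Γ(P, W.1)), f ^ m * y = 0 → y = 0 := by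
        intro m
        induction m with
        | zero => intro y hy; simpa using hy
        | succ m ih =>
          intro y hy
          rw [pow_succ', mul_assoc] at hy
          exact ih y (hf _ hy)
      exact h3 n _ hn
    have : P.basicOpen g = ⊥ := P.basicOpen_eq_bot_of_isNilpotent _ g ⟨n, hgn⟩
    rw [this] at hxg
    exact hxg
  obtain ⟨y, hy⟩ := (Opens.ne_bot_iff_nonempty _).1 hne
  rw [Scheme.basicOpen_mul] at hy
  exact ⟨y, hg hy.2, hle hy.1⟩

theorem surjective {P M : Scheme.{u}} {b : M ⟶ P} {J : P.IdealSheafData}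
    (hb : IsBlowUp b J) (h : Reg1 J) [IsProper b] : Surjective b := by
  obtain ⟨r, hr, hr'⟩ := exists_isIso_offSupport hb
  have h1 : (offSupport J : Set P) ⊆ Set.range b := by
    intro x hx
    refine ⟨(offSupport (J.comap b)).ι (inv r ⟨x, hx⟩), ?_⟩
    have h2 : inv r ≫ (offSupport (J.comap b)).ι ≫ b = (offSupport J).ι := by
      rw [← hr', IsIso.inv_hom_id_assoc]
    have h3 : (inv r ≫ (offSupport (J.comap b)).ι ≫ b) ⟨x, hx⟩ = (offSupport J).ι ⟨x, hx⟩ := by rw [h2]
    simpa using h3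
  have h2 : IsClosed (Set.range b) := b.isClosedMap.isClosed_range
  rw [surjective_iff]
  rw [← Set.range_eq_univ, ← h2.closure_eq]
  exact ((dense_offSupport h).mono h1).closure_eq

theorem flat_comp {P M S : Scheme.{u}} {b : M ⟶ P} {J : P.IdealSheafData}
    (hb : IsBlowUp b J) (g : P ⟶ S) [Flat g] [LocallyOfFinitePresentation (b ≫ g)]
    (hE : Flat ((exceptional b J).subschemeι ≫ b ≫ g)) : Flat (b ≫ g) := by
  obtain ⟨U, hU, hU'⟩ := S1703.result (b ≫ g) (J.comap b) ⟨hb.1, hE⟩
  have h2 := isOpenImmersion_offSupport hb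
  have h3 : Flat ((offSupport (J.comap b)).ι ≫ b ≫ g) := by
    rw [← Category.assoc]; infer_instance
  refine (IsZariskiLocalAtSource.iff_of_iSup_eq_top (P := @Flat)
    (fun i : Bool => bif i then U else offSupport (J.comap b)) ?_).mpr ?_
  · rw [eq_top_iff]
    intro x _
    by_cases hx : x ∈ (J.comap b).support
    · exact Opens.mem_iSup.2 ⟨true, hU hx⟩
    · exact Opens.mem_iSup.2 ⟨false, hx⟩
  · rintro (_ | _)
    · exact h3
    · exact hU'

end K712.BlowGeo
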