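import Groth.Agent.CalgB.ProjField
import Groth.Agent.Sga67.BlowAmple
import Groth.Agent.Krr.H458.SecP1
import Groth.Agent.Divis.BlowUpFormal
import Groth.Prelude.Def_RedSub

/-!
# Locally projective morphisms: ample modules after base change; blow-ups of locally projective morphisms
-/

set_option autoImplicit false
universe u

open CategoryTheory CategoryTheory.Limits AlgebraicGeometry TopologicalSpace
open Groth.Agent Groth.Agent.Divis Groth.Agent.Krr.H458.SecP1

namespace K712.LocProj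

theorem exists_of_isLocallyProjective {X S : Scheme.{u}} (f : X ⟶ S)
    (h : RedSub.IsLocallyProjective (Over.mk f)) {T : Scheme.{u}} (g : T ⟶ S) (t : T) :
    ∃ V : T.Opens, IsAffineOpen V ∧ t ∈ V ∧ ∀ {P : Scheme.{u}} (a : P ⟶ X) (π : P ⟶ V),
      IsPullback a π f (V.ι ≫ g) → IsProper π ∧ ∃ L : P.Modules, CohB1.IsAmple L := by
  obtain ⟨V₀, hV₀, m, e₀, he₀, he₀'⟩ := h (g t)
  obtain ⟨V, hV, htV, hle⟩ := exists_isAffineOpen_mem_and_subset (U := g ⁻¹ᵁ V₀) (x := t) hV₀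
  refine ⟨V, hV, htV, fun {P} a π hP => ?_⟩
  have : IsAffine V := hV
  have hrange : Set.range (V.ι ≫ g) ⊆ Set.range V₀.ι := by
    rintro _ ⟨x, rfl⟩
    rw [Scheme.Opens.range_ι]
    exact hle x.2
  let v : (V : Scheme.{u}) ⟶ V₀ := IsOpenImmersion.lift V₀.ι (V.ι ≫ g) hrange
  have hv : v ≫ V₀.ι = V.ι ≫ g := IsOpenImmersion.lift_fac _ _ _
  let π₀ : pullback f V₀.ι ⟶ V₀ := pullback.snd f V₀.ι
  let e₁ : pullback f V₀.ι ⟶ KRR.PY m V₀ := e₀
  have he₁ : IsClosedImmersion e₁ := he₀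
  have he₁' : e₁ ≫ KRR.pr m V₀ = π₀ := he₀'
  let a₀ : P ⟶ pullback f V₀.ι := pullback.lift a (π ≫ v) (by rw [Category.assoc, hv, hP.w])
  have ha₀ : a₀ ≫ pullback.fst f V₀.ι = a := pullback.lift_fst _ _ _
  have ha₀' : a₀ ≫ π₀ = π ≫ v := pullback.lift_snd _ _ _
  have sqA : IsPullback a₀ π π₀ v := by
    have h1 : IsPullback (a₀ ≫ pullback.fst f V₀.ι) π f (v ≫ V₀.ι) := by rw [ha₀, hv]; exact hP
    exact IsPullback.of_right h1 ha₀' (IsPullback.of_hasPullback _ _)
  have w : (a₀ ≫ e₁) ≫ KRR.pr m V₀ = π ≫ v := by rw [Category.assoc, he₁', ha₀']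
  let e : P ⟶ KRR.PY m V := (isPullback_projSpaceMap v m).lift (a₀ ≫ e₁) π w
  have h1 : e ≫ KRR.projSpaceMap m v = a₀ ≫ e₁ := (isPullback_projSpaceMap v m).lift_fst _ _ _
  have h2 : e ≫ KRR.pr m V = π := (isPullback_projSpaceMap v m).lift_snd _ _ _
  have sqB : IsPullback a₀ e e₁ (KRR.projSpaceMap m v) := by
    have h3 : IsPullback a₀ (e ≫ KRR.pr m V) (e₁ ≫ KRR.pr m V₀) v := by
      rw [h2, he₁']; exact sqA
    exact IsPullback.of_bot h3 h1.symm (isPullback_projSpaceMap v m)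
  have he : IsClosedImmersion e := MorphismProperty.of_isPullback (P := @IsClosedImmersion) sqB he₁
  exact (CalgB.ProjImm.closedImmersion_iff (CalgB.ProjField.exists_isAmple_of_isAffine _) π).1
    ⟨m, e, he, h2⟩

theorem isLocallyProjective_of {X S : Scheme.{u}} (f : X ⟶ S)
    (h : ∀ s : S, ∃ V : S.Opens, IsAffineOpen V ∧ s ∈ V ∧ IsProper (pullback.snd f V.ι) ∧
      ∃ L : (pullback f V.ι).Modules, CohB1.IsAmple L) :
    RedSub.IsLocallyProjective (Over.mk f) := by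
  intro s
  obtain ⟨V, hV, hsV, hp, hL⟩ := h s
  have : IsAffine V := hV
  obtain ⟨n, e, he, he'⟩ := (CalgB.ProjImm.closedImmersion_iff
    (CalgB.ProjField.exists_isAmple_of_isAffine (V : Scheme.{u})) (pullback.snd f V.ι)).2 ⟨hp, hL⟩
  exact ⟨V, hsV, n, e, he, he'⟩

/-- **A blow-up of `P^1_X` is locally projective over `P^1_S`.** -/
theorem isLocallyProjective_blow {X S M : Scheme.{u}} (f : X ⟶ S)
    (h : RedSub.IsLocallyProjective (Over.mk f)) (b : M ⟶ KRR.PY 1 X) [IsProper b]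
    {J : (KRR.PY 1 X).IdealSheafData} (hb : BlowUp.IsBlowUp b J) :
    RedSub.IsLocallyProjective (Over.mk (b ≫ KRR.projSpaceMap 1 f)) := by
  refine isLocallyProjective_of _ fun s => ?_
  obtain ⟨V, hV, hsV, hVP⟩ := exists_of_isLocallyProjective f h (KRR.pr 1 S) s
  have sq1 : IsPullback (pullback.fst (KRR.projSpaceMap 1 f) V.ι)
      (pullback.snd (KRR.projSpaceMap 1 f) V.ι) (KRR.projSpaceMap 1 f) V.ι :=
    IsPullback.of_hasPullback _ _
  obtain ⟨hp, L, hL⟩ := hVP _ _ (sq1.paste_horiz (isPullback_projSpaceMap f 1).flip)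
  let bV : pullback (b ≫ KRR.projSpaceMap 1 f) V.ι ⟶ pullback (KRR.projSpaceMap 1 f) V.ι :=
    pullback.lift (pullback.fst _ _ ≫ b) (pullback.snd _ _)
      (by rw [Category.assoc]; exact pullback.condition)
  have h1 : bV ≫ pullback.fst _ _ = pullback.fst _ _ ≫ b := pullback.lift_fst _ _ _
  have h2 : bV ≫ pullback.snd _ _ = pullback.snd _ _ := pullback.lift_snd _ _ _
  have sq2 : IsPullback (pullback.fst (b ≫ KRR.projSpaceMap 1 f) V.ι) bV b
      (pullback.fst (KRR.projSpaceMap 1 f) V.ι) := by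
    have h3 : IsPullback (pullback.fst (b ≫ KRR.projSpaceMap 1 f) V.ι) (bV ≫ pullback.snd _ _)
        (b ≫ KRR.projSpaceMap 1 f) V.ι := by
      rw [h2]; exact IsPullback.of_hasPullback _ _
    exact IsPullback.of_bot h3 h1.symm sq1
  have hbV : IsProper bV := MorphismProperty.of_isPullback (P := @IsProper) sq2 inferInstance
  refine ⟨V, hV, hsV, ?_, ?_⟩
  · rw [← h2]; infer_instance
  · exact Sga67.BlowAmple.exists_isAmple (BlowUpFormal.isBlowUp_of_isPullback hb sq2) L hL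

end K712.LocProj
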