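import Groth.Agent.IntTh.K712.BlowDim
import Groth.Agent.IntTh.K712.LocProj

/-!
# The deformation space to the normal cone over the projective line of the base
-/

set_option autoImplicit false
universe u

open CategoryTheory CategoryTheory.Limits AlgebraicGeometry TopologicalSpace
open Groth.Agent Groth.Agent.Divis Groth.Agent.Krr.H458.SecP1 Groth.Agent.Krr.H501.RegLen
open K712.DefoBase K712.SectSec

namespace K712.DefoFlat

theorem main {S X Y M : Scheme.{u}} (f : X ⟶ S) (n c : ℕ)
    (hfproj : RedSub.IsLocallyProjective (Over.mk f))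
    [Flat f] [Surjective f] [LocallyOfFinitePresentation f]
    (hfdim : ∀ x : X, FlatMor.fibreDimAt f x = n)
    (i : Y ⟶ X) [IsClosedImmersion i] (hi : ∀ y, RegAtLen i.ker c (i y))
    [Flat (i ≫ f)] [LocallyOfFinitePresentation (i ≫ f)]
    (b : M ⟶ KRR.PY 1 X) (hb : BlowUp.IsBlowUp b (i ≫ sec 1 X).ker) :
    RedSub.IsLocallyProjective (Over.mk (b ≫ KRR.projSpaceMap 1 f)) ∧
      Flat (b ≫ KRR.projSpaceMap 1 f) ∧
      Surjective (b ≫ KRR.projSpaceMap 1 f) ∧
      LocallyOfFinitePresentation (b ≫ KRR.projSpaceMap 1 f) ∧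
      ∀ m : M, FlatMor.fibreDimAt (b ≫ KRR.projSpaceMap 1 f) m = n := by
  have sq := isPullback_projSpaceMap f 1
  have p1 : Flat (KRR.projSpaceMap 1 f) := MorphismProperty.of_isPullback (P := @Flat) sq.flip inferInstance
  have p2 : Surjective (KRR.projSpaceMap 1 f) :=
    MorphismProperty.of_isPullback (P := @Surjective) sq.flip inferInstance
  have p3 : LocallyOfFinitePresentation (KRR.projSpaceMap 1 f) :=
    MorphismProperty.of_isPullback (P := @LocallyOfFinitePresentation) sq.flip inferInstance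
  have hz := regAtLen_center i hi 1
  have hzr := isRegular_of_regAtLen (i ≫ sec 1 X) hz
  have hR := BlowGeo.reg1_of_regAtLen (i ≫ sec 1 X) hz
  have hzg : (i ≫ sec 1 X) ≫ KRR.projSpaceMap 1 f ≫ KRR.pr 1 S = i ≫ f := by
    rw [Category.assoc, sec_projSpaceMap_assoc, sec_pr, Category.comp_id]
  have h1 : Flat ((i ≫ sec 1 X) ≫ KRR.projSpaceMap 1 f ≫ KRR.pr 1 S) := by
    rw [hzg]; infer_instance
  have hE := flat_exceptional (KRR.projSpaceMap 1 f ≫ KRR.pr 1 S) (i ≫ sec 1 X) hzr b hb
  have hlfp := BlowGeo.locallyOfFinitePresentation hb hR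
  have h2 : LocallyOfFiniteType (KRR.pr 1 S) := by
    have : Smooth (CohB1.ProjSpaceOver.toBase 1 S) := inferInstance
    exact (inferInstance : LocallyOfFiniteType (CohB1.ProjSpaceOver.toBase 1 S))
  have hprop : IsProper b := Sga5.H855.Geom.isProper (i ≫ sec 1 X) hb
    (KRR.projSpaceMap 1 f ≫ KRR.pr 1 S) (i ≫ f) hzg
  have hsurj := BlowGeo.surjective hb hR
  refine ⟨LocProj.isLocallyProjective_blow f hfproj b hb, BlowFib.flat_over_P1 b hb _ hE, inferInstance,
    inferInstance, fun m => ?_⟩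
  refine BlowDim.fibreDimAt_over_P1 b hb _ hE n (fun x => ?_) m
  rw [Ega4fib.H172.FibDimBC.fibreDimAt_of_isPullback sq.flip x, hfdim]

end K712.DefoFlat
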