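import Groth.Agent.IntTh.K712.StrictGeo
import Groth.Agent.IntTh.K712.DefoBase

/-!
# Strict transforms in deformation spaces to the normal cone

* `main`: `i : Y ⟶ X`, `i' : Z ⟶ Y` regular closed immersions of codimensions `c`, `e`; `b'`, `b` the
  blow-ups of `P^1_Y`, `P^1_X` in `Z × ∞`; every `k` over `P^1_Y ⟶ P^1_X` is a closed immersion,
  regular of codimension `c`.
-/

set_option autoImplicit false
universe u
open CategoryTheory CategoryTheory.Limits AlgebraicGeometry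

namespace K712.DefoStrict

open Groth.Agent Groth.Agent.Krr.H501.RegLen Groth.Agent.Krr.H458.SecP1 Groth.Agent.Krr.H501.DefP1
open K712.SectSec K712.DefoBase K712.StrictGeo Groth.Agent.Divis

theorem regAtLen_projSpaceMap {X Y : Scheme.{u}} (i : Y ⟶ X) [IsClosedImmersion i] {c : ℕ}
    (hi : ∀ y, RegAtLen i.ker c (i y)) (y : KRR.PY 1 Y) :
    RegAtLen (KRR.projSpaceMap 1 i).ker c (KRR.projSpaceMap 1 i y) := by
  obtain ⟨h1, h2⟩ := (isRegular_and_rank_iff i c).2 hi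
  exact (isRegular_and_rank_iff _ _).1 (isRegular_and_rank_projSpaceMap 1 i h1 h2) y

theorem main {X Y Z M M' : Scheme.{u}} (i : Y ⟶ X) [IsClosedImmersion i] {c e : ℕ}
    (hi : ∀ y, RegAtLen i.ker c (i y)) (i' : Z ⟶ Y) [IsClosedImmersion i']
    (hi' : ∀ z, RegAtLen i'.ker e (i' z)) (b' : M' ⟶ KRR.PY 1 Y)
    (hb' : BlowUp.IsBlowUp b' (i' ≫ sec 1 Y).ker) (b : M ⟶ KRR.PY 1 X)
    (hb : BlowUp.IsBlowUp b (i' ≫ i ≫ sec 1 X).ker) (j : M' ⟶ M)
    (hj : j ≫ b = b' ≫ KRR.projSpaceMap 1 i) :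
    IsClosedImmersion j ∧ ∀ m, RegAtLen j.ker c (j m) := by
  have h1 : i' ≫ i ≫ sec 1 X = (i' ≫ sec 1 Y) ≫ KRR.projSpaceMap 1 i := by
    rw [Category.assoc, sec_projSpaceMap]
  rw [h1] at hb
  exact StrictGeo.main b (KRR.projSpaceMap 1 i) b' j hj (i' ≫ sec 1 Y) c e
    (regAtLen_projSpaceMap i hi) (regAtLen_center i' hi' 1) hb hb'

theorem main_id {X Y M : Scheme.{u}} (i : Y ⟶ X) [IsClosedImmersion i] {c : ℕ}
    (hi : ∀ y, RegAtLen i.ker c (i y)) (b : M ⟶ KRR.PY 1 X)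
    (hb : BlowUp.IsBlowUp b (i ≫ sec 1 X).ker) (j : KRR.PY 1 Y ⟶ M)
    (hj : j ≫ b = KRR.projSpaceMap 1 i) :
    IsClosedImmersion j ∧ ∀ m, RegAtLen j.ker c (j m) := by
  rw [← sec_projSpaceMap] at hb
  exact StrictGeo.main b (KRR.projSpaceMap 1 i) (𝟙 _) j (by rw [hj, Category.id_comp]) (sec 1 Y) c 0
    (regAtLen_projSpaceMap i hi) (fun δ => regAtLen_of_isEff (isEff_idl 1 Y) _) hb
    (BlowUpFormal.isBlowUp_id (isEff_idl 1 Y))

end K712.DefoStrict
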