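import Groth.Agent.CycB.OrdLattice
import Mathlib.Algebra.Module.Lattice

/-!
# Distances of lattices

`A` a Noetherian domain of dimension `≤ 1` with fraction field `K`, `V` a finite-dimensional `K`-vector space.
`len M N` is the length of `M / (N ∩ M)`, `dist M N = len M (M ∩ N) - len N (M ∩ N)`.
-/

set_option autoImplicit false

open nonZeroDivisors
open Groth.Agent.CycB.OrdDet Groth.Agent.CycB.OrdFrac Groth.Agent.CycB.OrdLattice

namespace K712.Lattice

section Len

variable {A : Type*} [CommRing A] {V : Type*} [AddCommGroup V] [Module A V]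

/-- The length of `M / (N ∩ M)`. -/
noncomputable def len (M N : Submodule A V) : ℕ∞ := Module.length A (↥M ⧸ N.submoduleOf M)

theorem len_eq_coLen {M N : Submodule A V} (h : N ≤ M) : len M N = coLen (Submodule.inclusion h) := by
  unfold len coLen
  rw [Submodule.range_inclusion]
  rfl

theorem len_add {M P N : Submodule A V} (h1 : N ≤ P) (h2 : P ≤ M) : len M N = len M P + len P N := by
  rw [len_eq_coLen h1, len_eq_coLen h2, len_eq_coLen (h1.trans h2)]
  exact coLen_comp (Submodule.inclusion h2) (Submodule.inclusion h1) (Submodule.inclusion_injective h2)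

/-- The distance. -/
noncomputable def dist (M N : Submodule A V) : ℤ :=
  ((len M (M ⊓ N)).toNat : ℤ) - ((len N (M ⊓ N)).toNat : ℤ)

theorem dist_eq {M N P : Submodule A V} (hM : P ≤ M) (hN : P ≤ N) (h1 : len M P ≠ ⊤) (h2 : len N P ≠ ⊤) :
    dist M N = ((len M P).toNat : ℤ) - ((len N P).toNat : ℤ) := by
  have hP : P ≤ M ⊓ N := le_inf hM hN
  have e1 := len_add hP (inf_le_left : M ⊓ N ≤ M)
  have e2 := len_add hP (inf_le_right : M ⊓ N ≤ N)
  rw [e1] at h1
  rw [e2] at h2
  rw [dist, e1, e2, ENat.toNat_add (fun h => h1 (by rw [h, top_add])) (fun h => h1 (by rw [h, add_top])),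
    ENat.toNat_add (fun h => h2 (by rw [h, top_add])) (fun h => h2 (by rw [h, add_top]))]
  push_cast
  ring

end Len

section Lat

variable {A : Type*} [CommRing A] [IsDomain A] {K : Type*} [Field K] [Algebra A K]
  [IsFractionRing A K] {V : Type*} [AddCommGroup V] [Module K V] [Module A V] [IsScalarTower A K V]

theorem exists_smul_mem (N : Submodule A V) [Submodule.IsLattice K N] (v : V) :
    ∃ a : A, a ≠ 0 ∧ a • v ∈ N := by
  have hv : v ∈ Submodule.span K (N : Set V) := by
    rw [Submodule.IsLattice.span_eq_top]; trivial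
  induction hv using Submodule.span_induction with
  | mem x hx => exact ⟨1, one_ne_zero, by rwa [one_smul]⟩
  | zero => exact ⟨1, one_ne_zero, by rw [smul_zero]; exact N.zero_mem⟩
  | add x y _ _ hx hy =>
    obtain ⟨a, ha, hax⟩ := hx
    obtain ⟨b, hb, hby⟩ := hy
    refine ⟨a * b, mul_ne_zero ha hb, ?_⟩
    rw [smul_add]
    refine N.add_mem ?_ ?_
    · rw [mul_comm, mul_smul]; exact N.smul_mem _ hax
    · rw [mul_smul]; exact N.smul_mem _ hby
  | smul c x _ hx =>
    obtain ⟨a, ha, hax⟩ := hx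
    obtain ⟨p, q, hq, rfl⟩ := IsFractionRing.div_surjective (A := A) c
    have hq0 : q ≠ 0 := nonZeroDivisors.ne_zero hq
    have hqK : algebraMap A K q ≠ 0 := by rwa [Ne, FaithfulSMul.algebraMap_eq_zero_iff A K]
    refine ⟨q * a, mul_ne_zero hq0 ha, ?_⟩
    have h1 : (q * a) • (algebraMap A K p / algebraMap A K q) • x = p • a • x := by
      rw [← algebraMap_smul K (q * a), ← algebraMap_smul K p, ← algebraMap_smul K a, smul_smul, smul_smul,
        map_mul]
      congr 1
      field_simp
    rw [h1]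
    exact N.smul_mem _ hax

theorem exists_smul_le (M N : Submodule A V) (hM : M.FG) [Submodule.IsLattice K N] :
    ∃ a : A, a ≠ 0 ∧ ∀ m ∈ M, a • m ∈ N := by
  classical
  obtain ⟨s, rfl⟩ := hM
  choose a ha0 ha using fun v : V => exists_smul_mem (K := K) N v
  refine ⟨∏ v ∈ s, a v, Finset.prod_ne_zero_iff.mpr fun v _ => ha0 v, fun m hm => ?_⟩
  induction hm using Submodule.span_induction with
  | mem x hx =>
    rw [← Finset.prod_erase_mul _ _ (Finset.mem_coe.mp hx), mul_smul]
    exact N.smul_mem _ (ha x)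
  | zero => rw [smul_zero]; exact N.zero_mem
  | add x y _ _ hx hy => rw [smul_add]; exact N.add_mem hx hy
  | smul c x _ hx => rw [smul_comm]; exact N.smul_mem _ hx

omit [IsDomain A] in
theorem isLattice_of_smul_mem {N : Submodule A V} (hN : N.FG) (h : ∀ v : V, ∃ a : A, a ≠ 0 ∧ a • v ∈ N) :
    Submodule.IsLattice K N where
  fg := hN
  span_eq_top := by
    rw [eq_top_iff]
    intro v _
    obtain ⟨a, ha, hav⟩ := h v
    have haK : algebraMap A K a ≠ 0 := by rwa [Ne, FaithfulSMul.algebraMap_eq_zero_iff A K]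
    have h1 : v = (algebraMap A K a)⁻¹ • a • v := by
      rw [← algebraMap_smul K a, smul_smul, inv_mul_cancel₀ haK, one_smul]
    rw [h1]
    exact Submodule.smul_mem _ _ (Submodule.subset_span hav)

theorem isLattice_inf [IsNoetherianRing A] (M N : Submodule A V) [Submodule.IsLattice K M]
    [Submodule.IsLattice K N] : Submodule.IsLattice K (M ⊓ N) := by
  refine isLattice_of_smul_mem ?_ fun v => ?_
  · have : IsNoetherian A ↥(M ⊓ N) := isNoetherian_of_le inf_le_left
    rw [← Module.Finite.iff_fg]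
    infer_instance
  · obtain ⟨a, ha, hav⟩ := exists_smul_mem (K := K) M v
    obtain ⟨b, hb, hbv⟩ := exists_smul_mem (K := K) N v
    refine ⟨a * b, mul_ne_zero ha hb, ?_, ?_⟩
    · rw [mul_comm, mul_smul]; exact M.smul_mem _ hav
    · rw [mul_smul]; exact N.smul_mem _ hbv

variable [IsNoetherianRing A] [Ring.KrullDimLE 1 A]

theorem len_ne_top (M N : Submodule A V) (hM : M.FG) [Submodule.IsLattice K N] : len M N ≠ ⊤ := by
  obtain ⟨a, ha0, ha⟩ := exists_smul_le (K := K) M N hM
  have : Module.Finite A M := Module.Finite.iff_fg.mpr hM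
  refine length_ne_top_of_smul_eq_zero ha0 fun m => ?_
  obtain ⟨m, rfl⟩ := Submodule.Quotient.mk_surjective _ m
  rw [← Submodule.Quotient.mk_smul, Submodule.Quotient.mk_eq_zero]
  exact ha _ m.2

theorem dist_add (M₁ M₂ M₃ : Submodule A V) [Submodule.IsLattice K M₁] [Submodule.IsLattice K M₂]
    [Submodule.IsLattice K M₃] : dist M₁ M₃ = dist M₁ M₂ + dist M₂ M₃ := by
  let P := M₁ ⊓ M₂ ⊓ M₃
  have := isLattice_inf (K := K) M₁ M₂
  have : Submodule.IsLattice K P := isLattice_inf (K := K) (M₁ ⊓ M₂) M₃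
  have h1 : P ≤ M₁ := inf_le_left.trans inf_le_left
  have h2 : P ≤ M₂ := inf_le_left.trans inf_le_right
  have h3 : P ≤ M₃ := inf_le_right
  have f1 : len M₁ P ≠ ⊤ := len_ne_top (K := K) _ _ Submodule.IsLattice.fg
  have f2 : len M₂ P ≠ ⊤ := len_ne_top (K := K) _ _ Submodule.IsLattice.fg
  have f3 : len M₃ P ≠ ⊤ := len_ne_top (K := K) _ _ Submodule.IsLattice.fg
  rw [dist_eq h1 h3 f1 f3, dist_eq h1 h2 f1 f2, dist_eq h2 h3 f2 f3]
  ring

omit [IsNoetherianRing A] [Ring.KrullDimLE 1 A] in
theorem isLattice_map (M : Submodule A V) [Submodule.IsLattice K M] (φ : V ≃ₗ[K] V) :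
    Submodule.IsLattice K (M.map (φ.toLinearMap.restrictScalars A)) := by
  refine isLattice_of_smul_mem (Submodule.FG.map _ (Submodule.IsLattice.fg (A := K))) fun v => ?_
  obtain ⟨a, ha, hav⟩ := exists_smul_mem (K := K) M (φ.symm v)
  refine ⟨a, ha, a • φ.symm v, hav, ?_⟩
  change φ (a • φ.symm v) = a • v
  rw [← algebraMap_smul K a, ← algebraMap_smul K a, map_smul, LinearEquiv.apply_symm_apply]

omit [IsNoetherianRing A] [Ring.KrullDimLE 1 A] in
theorem isLocalizedModule_subtype (M : Submodule A V) [Submodule.IsLattice K M] :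
    IsLocalizedModule A⁰ M.subtype where
  map_units s := by
    have hs : algebraMap A K s ≠ 0 := by
      rw [Ne, FaithfulSMul.algebraMap_eq_zero_iff A K]; exact nonZeroDivisors.coe_ne_zero s
    rw [Module.End.isUnit_iff]
    constructor
    · intro x y hxy
      have h1 : algebraMap A K s • x = algebraMap A K s • y := by
        rw [algebraMap_smul, algebraMap_smul]; exact hxy
      exact smul_right_injective V hs h1
    · intro x
      refine ⟨(algebraMap A K s)⁻¹ • x, ?_⟩
      change (s : A) • (algebraMap A K s)⁻¹ • x = x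
      rw [← algebraMap_smul K (s : A), smul_smul, mul_inv_cancel₀ hs, one_smul]
  surj y := by
    obtain ⟨a, ha, hay⟩ := exists_smul_mem (K := K) M y
    exact ⟨(⟨a • y, hay⟩, ⟨a, mem_nonZeroDivisors_of_ne_zero ha⟩), rfl⟩
  exists_of_eq {x y} h := ⟨1, by rw [Subtype.ext h]⟩

/-- The distance from a lattice to its image is the order of the determinant. -/
theorem dist_map [FiniteDimensional K V] (M : Submodule A V) [Submodule.IsLattice K M] (φ : V ≃ₗ[K] V) :
    dist M (M.map (φ.toLinearMap.restrictScalars A)) = CycAlg.ordFrac A K (LinearMap.det φ.toLinearMap) := by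
  have hMφ := isLattice_map (K := K) M φ
  have hloc := isLocalizedModule_subtype (K := K) M
  have hMfg : M.FG := Submodule.IsLattice.fg (A := K)
  have hfin : Module.Finite A M := Module.Finite.iff_fg.mpr hMfg
  obtain ⟨s, hs0, hs⟩ := exists_smul_le (K := K) (M.map (φ.toLinearMap.restrictScalars A)) M
    (Submodule.FG.map _ hMfg)
  have hsK : algebraMap A K s ≠ 0 := by rwa [Ne, FaithfulSMul.algebraMap_eq_zero_iff A K]
  let ψ : M →ₗ[A] M := (s • φ.toLinearMap.restrictScalars A).restrict (fun x hx => by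
    exact hs _ ⟨x, hx, rfl⟩)
  let σ : M →ₗ[A] M := s • LinearMap.id
  have hdetφ : LinearMap.det φ.toLinearMap ≠ 0 := (LinearEquiv.isUnit_det' φ).ne_zero
  have hd1 : LinearMap.det (algebraMap A K s • φ.toLinearMap) =
      algebraMap A K s ^ Module.finrank K V * LinearMap.det φ.toLinearMap := LinearMap.det_smul _ _
  have hd2 : LinearMap.det (algebraMap A K s • (LinearMap.id : V →ₗ[K] V)) =
      algebraMap A K s ^ Module.finrank K V := by rw [LinearMap.det_smul, LinearMap.det_id, mul_one]
  have hpow : algebraMap A K s ^ Module.finrank K V ≠ 0 := pow_ne_zero _ hsK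
  obtain ⟨hψ1, hψ2⟩ := ordFrac_det (K := K) M.subtype M.injective_subtype ψ
    (algebraMap A K s • φ.toLinearMap) (fun m => by
      change algebraMap A K s • φ (m : V) = s • φ (m : V)
      rw [algebraMap_smul]) (by rw [hd1]; exact mul_ne_zero hpow hdetφ)
  obtain ⟨hσ1, hσ2⟩ := ordFrac_det (K := K) M.subtype M.injective_subtype σ
    (algebraMap A K s • LinearMap.id) (fun m => by
      change algebraMap A K s • (m : V) = s • (m : V)
      rw [algebraMap_smul]) (by rw [hd2]; exact hpow)
  rw [hd1] at hψ2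
  rw [hd2] at hσ2
  rw [ordFrac_mul A K hpow hdetφ, hσ2] at hψ2
  let P : Submodule A V := M.map (s • φ.toLinearMap.restrictScalars A)
  have hP1 : P ≤ M := by
    rintro _ ⟨x, hx, rfl⟩
    exact hs _ ⟨x, hx, rfl⟩
  have hP2 : P ≤ M.map (φ.toLinearMap.restrictScalars A) := by
    rintro _ ⟨x, hx, rfl⟩
    exact Submodule.smul_mem _ s ⟨x, hx, rfl⟩
  have hl1 : len M P = coLen ψ := by
    unfold len coLen
    have : P.submoduleOf M = LinearMap.range ψ := by
      ext x
      constructor
      · rintro ⟨y, hy, hyx⟩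
        exact ⟨⟨y, hy⟩, Subtype.ext hyx⟩
      · rintro ⟨y, rfl⟩
        exact ⟨y, y.2, rfl⟩
    rw [this]
  have hl2 : len (M.map (φ.toLinearMap.restrictScalars A)) P = coLen σ := by
    unfold len coLen
    symm
    let e : M ≃ₗ[A] M.map (φ.toLinearMap.restrictScalars A) := (φ.restrictScalars A).submoduleMap M
    refine (Submodule.Quotient.equiv (LinearMap.range σ) (P.submoduleOf _) e ?_).length_eq
    ext x
    constructor
    · rintro ⟨_, ⟨y, rfl⟩, rfl⟩
      refine ⟨y, y.2, ?_⟩
      change s • φ (y : V) = φ (s • (y : V))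
      rw [← algebraMap_smul K s, ← algebraMap_smul K s, map_smul]
    · rintro ⟨y, hy, hyx⟩
      refine ⟨σ ⟨y, hy⟩, ⟨⟨y, hy⟩, rfl⟩, Subtype.ext ?_⟩
      rw [← Submodule.subtype_apply, ← Submodule.subtype_apply, ← hyx]
      change φ (s • y) = s • φ y
      rw [← algebraMap_smul K s, ← algebraMap_smul K s, map_smul]
  rw [dist_eq hP1 hP2 (by rw [hl1]; exact hψ1) (by rw [hl2]; exact hσ1), hl1, hl2, ← hψ2]
  ring

end Lat

end K712.Lattice
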