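import Groth.Agent.S1918
import Groth.Agent.CycA.SetupField

/-!
# Mayer-Vietoris for cycles modulo rational equivalence
-/

set_option autoImplicit false
universe u
open CategoryTheory CategoryTheory.Limits AlgebraicGeometry
open Groth.Agent.CycB.DivNat Groth.Agent.CycB.RatTransport

namespace K712.MayerViet

variable {X X₁ X₂ : Scheme.{u}}

/-- The restriction of a cycle to a set of points (extended by zero). -/
noncomputable def restr (S : Set X) (c : AlgebraicCycle X ℤ) : AlgebraicCycle X ℤ := by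
  classical
  exact
  { toFun := fun z => if z ∈ S then c z else 0
    supportWithinDomain' := by simp
    supportLocallyFiniteWithinDomain' := fun z _ => by
      obtain ⟨t, ht, hfin⟩ := c.supportLocallyFiniteWithinDomain' z (by trivial)
      refine ⟨t, ht, hfin.subset ?_⟩
      rintro y ⟨hy, hy'⟩
      refine ⟨hy, ?_⟩
      rw [Function.mem_support] at hy' ⊢
      intro h
      apply hy'
      split_ifs
      · exact h
      · rfl }

theorem restr_of_mem {S : Set X} (c : AlgebraicCycle X ℤ) {x : X} (hx : x ∈ S) : restr S c x = c x :=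
  if_pos hx

theorem restr_of_notMem {S : Set X} (c : AlgebraicCycle X ℤ) {x : X} (hx : x ∉ S) : restr S c x = 0 :=
  if_neg hx

/-- Surjectivity on the level of cycles. -/
theorem exists_decomp (δ : X → ℤ) (i₁ : X₁ ⟶ X) (i₂ : X₂ ⟶ X) [IsClosedImmersion i₁] [IsClosedImmersion i₂]
    (hcov : Set.range i₁ ∪ Set.range i₂ = Set.univ) (n : ℤ)
    (α : AlgebraicCycle X ℤ) (hα : α ∈ Cyc.Zk X δ n) :
    ∃ (α₁ : AlgebraicCycle X₁ ℤ) (α₂ : AlgebraicCycle X₂ ℤ),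
      α₁ ∈ Cyc.Zk X₁ (fun x => δ (i₁ x)) n ∧ α₂ ∈ Cyc.Zk X₂ (fun x => δ (i₂ x)) n ∧
      α = AlgebraicCycle.map i₁ (fun x => δ (i₁ x)) δ α₁ + AlgebraicCycle.map i₂ (fun x => δ (i₂ x)) δ α₂ := by
  have hinj₁ := i₁.isEmbedding.injective
  have hinj₂ := i₂.isEmbedding.injective
  have hm₁ : ∀ (c : AlgebraicCycle X₁ ℤ) z, AlgebraicCycle.map i₁ (fun x => δ (i₁ x)) δ c (i₁ z) = c z :=
    fun c z => map_apply_of_isPreimmersion i₁ _ _ _ _ rfl
  have hm₂ : ∀ (c : AlgebraicCycle X₂ ℤ) z, AlgebraicCycle.map i₂ (fun x => δ (i₂ x)) δ c (i₂ z) = c z :=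
    fun c z => map_apply_of_isPreimmersion i₂ _ _ _ _ rfl
  refine ⟨comapCycle i₁ hinj₁ α, comapCycle i₂ hinj₂ (restr (Set.range i₁)ᶜ α),
    comapCycle_mem_Zk i₁ hinj₁ δ n α hα, ?_, ?_⟩
  · intro z hz
    rw [comapCycle_apply]
    by_cases h : i₂ z ∈ (Set.range i₁)ᶜ
    · rw [restr_of_mem _ h]; exact hα _ hz
    · rw [restr_of_notMem _ h]
  · ext x
    change α x = AlgebraicCycle.map i₁ (fun x => δ (i₁ x)) δ _ x +
      AlgebraicCycle.map i₂ (fun x => δ (i₂ x)) δ _ x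
    by_cases hx : x ∈ Set.range i₁
    · have h2 : AlgebraicCycle.map i₂ (fun x => δ (i₂ x)) δ
          (comapCycle i₂ hinj₂ (restr (Set.range i₁)ᶜ α)) x = 0 := by
        by_cases hx2 : x ∈ Set.range i₂
        · obtain ⟨z, rfl⟩ := hx2
          rw [hm₂, comapCycle_apply, restr_of_notMem]
          exact fun h => h hx
        · exact map_apply_notMem_range i₂ _ _ _ _ hx2
      rw [h2, add_zero]
      obtain ⟨z, rfl⟩ := hx
      rw [hm₁, comapCycle_apply]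
    · have hx2 : x ∈ Set.range i₂ := (hcov.ge (Set.mem_univ x)).resolve_left hx
      rw [map_apply_notMem_range i₁ _ _ _ _ hx, zero_add]
      obtain ⟨z, rfl⟩ := hx2
      rw [hm₂, comapCycle_apply, restr_of_mem _ hx]

theorem map_neg_apply {Y : Scheme.{u}} (f : X ⟶ Y) [IsClosedImmersion f] (δX : X → ℤ) (δY : Y → ℤ)
    (hδ : ∀ x, δX x = δY (f x)) (c : AlgebraicCycle X ℤ) (y : Y) :
    AlgebraicCycle.map f δX δY (-c) y = - AlgebraicCycle.map f δX δY c y := by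
  by_cases hy : y ∈ Set.range f
  · obtain ⟨x, rfl⟩ := hy
    rw [map_apply_of_isPreimmersion f _ _ _ _ (hδ x), map_apply_of_isPreimmersion f _ _ _ _ (hδ x)]
    rfl
  · rw [map_apply_notMem_range f _ _ _ _ hy, map_apply_notMem_range f _ _ _ _ hy, neg_zero]

/-- Exactness in the middle. -/
theorem exists_middle (δ : X → ℤ) (hX : Cyc.IsSetup X δ) {Y : Scheme.{u}}
    (i₁ : X₁ ⟶ X) (i₂ : X₂ ⟶ X) [IsClosedImmersion i₁] [IsClosedImmersion i₂]
    (hcov : Set.range i₁ ∪ Set.range i₂ = Set.univ)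
    (j₁ : Y ⟶ X₁) (j₂ : Y ⟶ X₂) [IsClosedImmersion j₁] [IsClosedImmersion j₂]
    (hcomm : j₁ ≫ i₁ = j₂ ≫ i₂) (hY : Set.range (j₁ ≫ i₁) = Set.range i₁ ∩ Set.range i₂) (n : ℤ)
    (α₁ : AlgebraicCycle X₁ ℤ) (α₂ : AlgebraicCycle X₂ ℤ)
    (h₁ : α₁ ∈ Cyc.Zk X₁ (fun x => δ (i₁ x)) n) (h₂ : α₂ ∈ Cyc.Zk X₂ (fun x => δ (i₂ x)) n)
    (h : Cyc.RatEquivZero δ n
        (AlgebraicCycle.map i₁ (fun x => δ (i₁ x)) δ α₁ + AlgebraicCycle.map i₂ (fun x => δ (i₂ x)) δ α₂)) :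
    ∃ γ : AlgebraicCycle Y ℤ, γ ∈ Cyc.Zk Y (fun y => δ (i₁ (j₁ y))) n ∧
        Cyc.RatEquiv (fun x => δ (i₁ x)) n α₁
          (AlgebraicCycle.map j₁ (fun y => δ (i₁ (j₁ y))) (fun x => δ (i₁ x)) γ) ∧
        Cyc.RatEquiv (fun x => δ (i₂ x)) n α₂
          (-AlgebraicCycle.map j₂ (fun y => δ (i₁ (j₁ y))) (fun x => δ (i₂ x)) γ) := by
  have hneg : AlgebraicCycle.map i₂ (fun x => δ (i₂ x)) δ (-α₂) =
      - AlgebraicCycle.map i₂ (fun x => δ (i₂ x)) δ α₂ := by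
    ext y
    exact map_neg_apply i₂ _ _ (fun _ => rfl) α₂ y
  have h' : Cyc.RatEquiv δ n (AlgebraicCycle.map i₁ (fun x => δ (i₁ x)) δ α₁)
      (AlgebraicCycle.map i₂ (fun x => δ (i₂ x)) δ (-α₂)) := by
    unfold Cyc.RatEquiv
    rw [hneg, sub_neg_eq_add]
    exact h
  have h₂' : -α₂ ∈ Cyc.Zk X₂ (fun x => δ (i₂ x)) n := fun x hx => by
    change -(α₂ x) = 0
    rw [h₂ x hx, neg_zero]
  obtain ⟨β, hβ, hβ₁, hβ₂⟩ := Groth.Agent.S1918.result X δ hX X₁ X₂ i₁ i₂ hcov n α₁ (-α₂) h₁ h₂' h'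
  let g : Y ⟶ pullback i₁ i₂ := pullback.lift j₁ j₂ hcomm
  have hg1 : g ≫ pullback.fst i₁ i₂ = j₁ := pullback.lift_fst _ _ _
  have hg2 : g ≫ pullback.snd i₁ i₂ = j₂ := pullback.lift_snd _ _ _
  have hgc : IsClosedImmersion g := by
    have : IsClosedImmersion (g ≫ pullback.fst i₁ i₂) := by rw [hg1]; infer_instance
    exact IsClosedImmersion.of_comp g (pullback.fst i₁ i₂)
  have e1 : ∀ y, pullback.fst i₁ i₂ (g y) = j₁ y := fun y => by
    rw [← Scheme.Hom.comp_apply, hg1]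
  have e2 : ∀ y, pullback.snd i₁ i₂ (g y) = j₂ y := fun y => by
    rw [← Scheme.Hom.comp_apply, hg2]
  have hcond : ∀ z : ↥(pullback i₁ i₂), i₁ (pullback.fst i₁ i₂ z) = i₂ (pullback.snd i₁ i₂ z) := by
    intro z
    rw [← Scheme.Hom.comp_apply, ← Scheme.Hom.comp_apply, pullback.condition]
  have hgs : ∀ z, ∃ y, g y = z := by
    intro z
    have h1 : i₁ (pullback.fst i₁ i₂ z) ∈ Set.range (j₁ ≫ i₁) := by
      rw [hY]
      exact ⟨⟨_, rfl⟩, ⟨_, (hcond z).symm⟩⟩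
    obtain ⟨y, hy⟩ := h1
    refine ⟨y, ?_⟩
    apply (pullback.fst i₁ i₂).isEmbedding.injective
    apply i₁.isEmbedding.injective
    rw [e1, ← hy]
    rfl
  have hj : ∀ y, i₁ (j₁ y) = i₂ (j₂ y) := fun y => by
    rw [← e1, hcond, e2]
  have hinj := g.isEmbedding.injective
  refine ⟨comapCycle g hinj β, ?_, ?_, ?_⟩
  · intro y hy
    rw [comapCycle_apply]
    apply hβ
    change δ (i₁ (pullback.fst i₁ i₂ (g y))) ≠ n
    rw [e1]
    exact hy
  · have h1 : AlgebraicCycle.map j₁ (fun y => δ (i₁ (j₁ y))) (fun x => δ (i₁ x)) (comapCycle g hinj β) =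
        AlgebraicCycle.map (pullback.fst i₁ i₂) (fun z => δ (i₁ (pullback.fst i₁ i₂ z)))
          (fun x => δ (i₁ x)) β := by
      ext x
      by_cases hx : x ∈ Set.range j₁
      · obtain ⟨y, rfl⟩ := hx
        rw [map_apply_of_isPreimmersion j₁ _ _ _ _ rfl, comapCycle_apply, ← e1 y,
          map_apply_of_isPreimmersion (pullback.fst i₁ i₂) _ _ _ _ rfl]
      · rw [map_apply_notMem_range j₁ _ _ _ _ hx, map_apply_notMem_range]
        rintro ⟨z, rfl⟩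
        obtain ⟨y, rfl⟩ := hgs z
        exact hx ⟨y, (e1 y).symm⟩
    rw [h1]
    exact hβ₁
  · have h1 : AlgebraicCycle.map j₂ (fun y => δ (i₁ (j₁ y))) (fun x => δ (i₂ x)) (comapCycle g hinj β) =
        AlgebraicCycle.map (pullback.snd i₁ i₂) (fun z => δ (i₁ (pullback.fst i₁ i₂ z)))
          (fun x => δ (i₂ x)) β := by
      ext x
      by_cases hx : x ∈ Set.range j₂
      · obtain ⟨y, rfl⟩ := hx
        rw [map_apply_of_isPreimmersion j₂ _ _ _ _ (by rw [hj]), comapCycle_apply, ← e2 y,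
          map_apply_of_isPreimmersion (pullback.snd i₁ i₂) _ _ _ _ (by rw [hcond])]
      · rw [map_apply_notMem_range j₂ _ _ _ _ hx, map_apply_notMem_range]
        rintro ⟨z, rfl⟩
        obtain ⟨y, rfl⟩ := hgs z
        exact hx ⟨y, (e2 y).symm⟩
    rw [h1]
    have h2 := Groth.Agent.S1918.ratEquivZero_neg n _ hβ₂
    unfold Cyc.RatEquiv
    convert h2 using 1
    abel

end K712.MayerViet
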