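import Mathlib.LinearAlgebra.Matrix.Block
import Mathlib.LinearAlgebra.Matrix.Determinant.Basic
import Mathlib.RingTheory.PowerSeries.Basic
import Mathlib.RingTheory.PowerSeries.Trunc
import Mathlib.Algebra.Polynomial.BigOperators
import Mathlib.Tactic.LinearCombination

/-!
# The determinant of the coefficients of the partial quotients
-/

set_option autoImplicit false

open PowerSeries

namespace K712.PartialQuot

variable {R : Type*} [CommRing R]

/-- `1 + a t`. -/
noncomputable def lin (a : R) : R⟦X⟧ := 1 + C a * X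

/-- `1 / (1 + a t)`. -/
noncomputable def geo (a : R) : R⟦X⟧ := PowerSeries.mk fun m => (-a) ^ m

theorem lin_mul_geo (a : R) : lin a * geo a = 1 := by
  ext n
  rw [lin, add_mul, one_mul, map_add, mul_assoc, coeff_C_mul, geo]
  cases n with
  | zero =>
    rw [mul_comm X, coeff_zero_mul_X, coeff_mk, coeff_zero_one]
    simp
  | succ n =>
    rw [mul_comm X, coeff_succ_mul_X, coeff_mk, coeff_mk, coeff_one, if_neg (Nat.succ_ne_zero n)]
    ring

theorem coeff_succ_lin_mul (a : R) (f : R⟦X⟧) (n : ℕ) :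
    coeff (n + 1) (lin a * f) = coeff (n + 1) f + a * coeff n f := by
  rw [lin, add_mul, one_mul, map_add, mul_assoc, coeff_C_mul, mul_comm X, coeff_succ_mul_X]

theorem coeff_prod_lin_eq_zero {ι : Type*} (s : Finset ι) (β : ι → R) (n : ℕ) (hn : s.card < n) :
    coeff n (∏ j ∈ s, lin (β j)) = 0 := by
  classical
  induction s using Finset.induction_on generalizing n with
  | empty => rw [Finset.prod_empty, coeff_one, if_neg]; simp at hn; omega
  | insert a s ha ih =>
    rw [Finset.card_insert_of_notMem ha] at hn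
    obtain ⟨n, rfl⟩ := Nat.exists_eq_succ_of_ne_zero (by omega : n ≠ 0)
    rw [Finset.prod_insert ha, coeff_succ_lin_mul, ih _ (by omega), ih _ (by omega), mul_zero, add_zero]

theorem coeff_prod_lin_mul_geo {ι : Type*} (s : Finset ι) (β : ι → R) (a : R) :
    coeff s.card ((∏ j ∈ s, lin (β j)) * geo a) = ∏ j ∈ s, (β j - a) := by
  classical
  induction s using Finset.induction_on with
  | empty => simp [geo]
  | insert b s hb ih =>
    have h0 : coeff (s.card + 1) (lin a * ((∏ j ∈ s, lin (β j)) * geo a)) = 0 := by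
      rw [mul_left_comm, lin_mul_geo, mul_one]
      exact coeff_prod_lin_eq_zero s β _ (Nat.lt_succ_self _)
    rw [coeff_succ_lin_mul, ih] at h0
    rw [Finset.card_insert_of_notMem hb, Finset.prod_insert hb, Finset.prod_insert hb, mul_assoc,
      coeff_succ_lin_mul, ih]
    linear_combination h0

theorem coeff_zero_prod_lin {ι : Type*} (s : Finset ι) (β : ι → R) :
    coeff 0 (∏ j ∈ s, lin (β j)) = 1 := by
  rw [coeff_zero_eq_constantCoeff_apply, map_prod]
  refine Finset.prod_eq_one fun j _ => ?_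
  simp [lin]

variable {d : ℕ} (e : ℕ) (α : Fin d → R)

/-- The matrix of the coefficients. -/
noncomputable def M (P : Fin d → R⟦X⟧) : Matrix (Fin d) (Fin d) R :=
  Matrix.of fun i j : Fin d => if (i : ℕ) ≤ e + (j : ℕ) then coeff (e + (j : ℕ) - (i : ℕ)) (P i) else 0

/-- `∏_{l < j} (1 + α_l t)`. -/
noncomputable def A (j : Fin d) : R⟦X⟧ := ∏ l ∈ Finset.Iio j, lin (α l)

/-- The column operations. -/
noncomputable def U : Matrix (Fin d) (Fin d) R :=
  Matrix.of fun k j : Fin d => if (k : ℕ) ≤ (j : ℕ) then coeff ((j : ℕ) - (k : ℕ)) (A α j) else 0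

theorem det_U : (U α).det = 1 := by
  rw [Matrix.det_of_isUpperTriangular]
  · refine Finset.prod_eq_one fun i _ => ?_
    rw [U, Matrix.of_apply, if_pos le_rfl, Nat.sub_self]
    exact coeff_zero_prod_lin _ _
  · intro i j hij
    have hij' : (j : ℕ) < i := hij
    rw [U, Matrix.of_apply, if_neg (not_le.mpr hij')]

theorem mul_U (P : Fin d → R⟦X⟧) (i j : Fin d) (hij : (i : ℕ) ≤ e + (j : ℕ)) :
    (M e P * U α) i j = coeff (e + (j : ℕ) - (i : ℕ)) (P i * A α j) := by
  rw [Matrix.mul_apply, coeff_mul]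
  symm
  -- reindex
  have h1 : ∀ p ∈ Finset.antidiagonal (e + (j : ℕ) - (i : ℕ)), ¬ (p.2 ≤ (j : ℕ)) →
      coeff p.1 (P i) * coeff p.2 (A α j) = 0 := by
    intro p _ hp
    rw [A, coeff_prod_lin_eq_zero _ _ _ (by rw [Fin.card_Iio]; omega), mul_zero]
  rw [← Finset.sum_filter_add_sum_filter_not _ (fun p : ℕ × ℕ => p.2 ≤ (j : ℕ)),
    Finset.sum_eq_zero (s := Finset.filter (fun p : ℕ × ℕ => ¬ p.2 ≤ (j : ℕ)) _)
      (fun p hp => h1 p (Finset.mem_filter.mp hp).1 (Finset.mem_filter.mp hp).2), add_zero]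
  rw [← Finset.sum_filter_add_sum_filter_not Finset.univ (fun k : Fin d => (i : ℕ) ≤ e + (k : ℕ) ∧ (k : ℕ) ≤ j),
    Finset.sum_eq_zero (s := Finset.filter (fun k : Fin d => ¬ ((i : ℕ) ≤ e + (k : ℕ) ∧ (k : ℕ) ≤ j)) _), add_zero]
  · refine Finset.sum_bij' (fun p _ => (⟨(j : ℕ) - p.2, by omega⟩ : Fin d))
      (fun k _ => (e + (k : ℕ) - (i : ℕ), (j : ℕ) - (k : ℕ))) ?_ ?_ ?_ ?_ ?_
    · intro p hp
      rw [Finset.mem_filter, Finset.mem_antidiagonal] at hp
      rw [Finset.mem_filter]
      refine ⟨Finset.mem_univ _, ?_, ?_⟩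
      · change (i : ℕ) ≤ e + ((j : ℕ) - p.2)
        omega
      · change (j : ℕ) - p.2 ≤ j
        omega
    · intro k hk
      rw [Finset.mem_filter] at hk
      rw [Finset.mem_filter, Finset.mem_antidiagonal]
      dsimp only
      omega
    · intro p hp
      rw [Finset.mem_filter, Finset.mem_antidiagonal] at hp
      ext
      · change e + ((j : ℕ) - p.2) - (i : ℕ) = p.1
        omega
      · change (j : ℕ) - ((j : ℕ) - p.2) = p.2
        omega
    · intro k hk
      rw [Finset.mem_filter] at hk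
      ext
      change (j : ℕ) - ((j : ℕ) - (k : ℕ)) = k
      omega
    · intro p hp
      rw [Finset.mem_filter, Finset.mem_antidiagonal] at hp
      rw [M, U, Matrix.of_apply, Matrix.of_apply]
      dsimp only
      rw [if_pos (by omega), if_pos (by omega)]
      congr 3
      · omega
      · omega
  · intro k hk
    rw [Finset.mem_filter, not_and_or] at hk
    rw [M, U, Matrix.of_apply, Matrix.of_apply]
    rcases hk.2 with h | h
    · rw [if_neg h, zero_mul]
    · rw [if_neg h, mul_zero]

/-- The partial quotients. -/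
noncomputable def PQ (b : R⟦X⟧) (i : Fin d) : R⟦X⟧ := b * ∏ l ∈ Finset.Iic i, geo (α l)

theorem PQ_mul_A_self (b : R⟦X⟧) (i : Fin d) : PQ α b i * A α i = b * geo (α i) := by
  have h1 : (∏ l ∈ Finset.Iic i, geo (α l)) = geo (α i) * ∏ l ∈ Finset.Iio i, geo (α l) := by
    rw [← Finset.Iio_insert, Finset.prod_insert (by simp)]
  rw [PQ, A, h1]
  have h2 : (∏ l ∈ Finset.Iio i, geo (α l)) * ∏ l ∈ Finset.Iio i, lin (α l) = 1 := by
    rw [← Finset.prod_mul_distrib]
    refine Finset.prod_eq_one fun l _ => ?_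
    rw [mul_comm]; exact lin_mul_geo _
  linear_combination b * geo (α i) * h2

theorem PQ_mul_A_of_lt (b : R⟦X⟧) {i j : Fin d} (hij : i < j) :
    PQ α b i * A α j = b * ∏ l ∈ Finset.Ioo i j, lin (α l) := by
  have h1 : A α j = (∏ l ∈ Finset.Iic i, lin (α l)) * ∏ l ∈ Finset.Ioo i j, lin (α l) := by
    rw [A, ← Finset.prod_union]
    · congr 1
      ext l
      simp only [Finset.mem_Iio, Finset.mem_union, Finset.mem_Iic, Finset.mem_Ioo]
      constructor
      · intro h
        by_cases h' : l ≤ i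
        · exact Or.inl h'
        · exact Or.inr ⟨not_le.mp h', h⟩
      · rintro (h | h)
        · exact lt_of_le_of_lt h hij
        · exact h.2
    · rw [Finset.disjoint_left]
      intro l h1 h2
      rw [Finset.mem_Iic] at h1
      rw [Finset.mem_Ioo] at h2
      exact absurd h1 (not_le.mpr h2.1)
  rw [PQ, h1]
  have h2 : (∏ l ∈ Finset.Iic i, geo (α l)) * ∏ l ∈ Finset.Iic i, lin (α l) = 1 := by
    rw [← Finset.prod_mul_distrib]
    refine Finset.prod_eq_one fun l _ => ?_
    rw [mul_comm]; exact lin_mul_geo _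
  linear_combination b * (∏ l ∈ Finset.Ioo i j, lin (α l)) * h2

theorem det_M (β : Fin e → R) :
    (M e (PQ α (∏ j, lin (β j)))).det = ∏ i : Fin d, ∏ j : Fin e, (β j - α i) := by
  have h1 : (M e (PQ α (∏ j, lin (β j))) * U α).det = (M e (PQ α (∏ j, lin (β j)))).det := by
    rw [Matrix.det_mul, det_U, mul_one]
  rw [← h1, Matrix.det_of_isLowerTriangular]
  · refine Finset.prod_congr rfl fun i _ => ?_
    rw [mul_U e α _ i i (by omega), PQ_mul_A_self]
    have := coeff_prod_lin_mul_geo (Finset.univ : Finset (Fin e)) β (α i)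
    rw [Finset.card_univ, Fintype.card_fin] at this
    rw [Nat.add_sub_cancel]
    exact this
  · intro i j hij
    have hij' : i < j := hij
    rw [mul_U e α _ i j (by have : (i : ℕ) < j := hij'; omega), PQ_mul_A_of_lt α _ hij']
    -- a polynomial of small degree
    have h2 : (∏ j, lin (β j)) * ∏ l ∈ Finset.Ioo i j, lin (α l) =
        ∏ l ∈ (Finset.univ : Finset (Fin e)).disjSum (Finset.Ioo i j), lin (Sum.elim β α l) := by
      rw [Finset.prod_disjSum]
      rfl
    rw [h2]
    apply coeff_prod_lin_eq_zero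
    rw [Finset.card_disjSum, Finset.card_univ, Fintype.card_fin, Fin.card_Ioo]
    have : (i : ℕ) < j := hij'
    omega

end K712.PartialQuot
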