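import Mathlib.LinearAlgebra.Matrix.NonsingularInverse
import Mathlib.LinearAlgebra.Matrix.Rank
import Mathlib.LinearAlgebra.LinearIndependent.Lemmas
import Mathlib.Data.Finset.Sort
import Mathlib.Tactic.FinCases

/-!
# Schubert conditions and Pluecker minors
-/

set_option autoImplicit false

open Matrix Module

namespace K712.SchubertMinor

variable {K : Type*} [Field K] {n d : ℕ}

/-- The columns `≥ m`. -/
def cut (A : Matrix (Fin d) (Fin n) K) (m : ℕ) : Matrix (Fin d) {l : Fin n // m ≤ (l : ℕ)} K :=
  A.submatrix id Subtype.val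

theorem vecMul_injective (A : Matrix (Fin d) (Fin n) K) (hA : LinearIndependent K (fun i : Fin d => A i)) :
    Function.Injective A.vecMulLinear :=
  Matrix.vecMul_injective_iff.mpr hA

theorem inf_eq_map (A : Matrix (Fin d) (Fin n) K) (V : ℕ → Submodule K (Fin n → K))
    (hV : ∀ (j : ℕ) (v : Fin n → K), v ∈ V j ↔ ∀ l : Fin n, j ≤ (l : ℕ) → v l = 0) (m : ℕ) :
    Submodule.span K (Set.range fun i : Fin d => A i) ⊓ V m =
      (LinearMap.ker (cut A m).vecMulLinear).map A.vecMulLinear := by
  have h0 : Submodule.span K (Set.range fun i : Fin d => A i) = LinearMap.range A.vecMulLinear := by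
    rw [range_vecMulLinear]; rfl
  rw [h0]
  ext v
  rw [Submodule.mem_inf, hV]
  constructor
  · rintro ⟨⟨x, rfl⟩, hx⟩
    refine ⟨x, ?_, rfl⟩
    rw [SetLike.mem_coe, LinearMap.mem_ker]
    funext l
    exact hx l.1 l.2
  · rintro ⟨x, hx, rfl⟩
    rw [SetLike.mem_coe, LinearMap.mem_ker] at hx
    exact ⟨⟨x, rfl⟩, fun l hl => congrFun hx ⟨l, hl⟩⟩

theorem finrank_inf (A : Matrix (Fin d) (Fin n) K) (hA : LinearIndependent K (fun i : Fin d => A i))
    (V : ℕ → Submodule K (Fin n → K))
    (hV : ∀ (j : ℕ) (v : Fin n → K), v ∈ V j ↔ ∀ l : Fin n, j ≤ (l : ℕ) → v l = 0) (m : ℕ) :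
    finrank K ↥(Submodule.span K (Set.range fun i : Fin d => A i) ⊓ V m) =
      finrank K (LinearMap.ker (cut A m).vecMulLinear) := by
  rw [inf_eq_map A V hV m]
  exact (Submodule.equivMapOfInjective _ (vecMul_injective A hA) _).finrank_eq.symm

theorem finrank_ker_add_rank (A : Matrix (Fin d) (Fin n) K) (m : ℕ) :
    (cut A m).rank + finrank K (LinearMap.ker (cut A m).vecMulLinear) = d := by
  have h := LinearMap.finrank_range_add_finrank_ker (cut A m).vecMulLinear
  rw [finrank_fin_fun] at h
  have h2 : (cut A m).rank = finrank K (LinearMap.range (cut A m).vecMulLinear) := by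
    rw [← rank_transpose, rank, mulVecLin_transpose]
  rw [h2, h]

/-- One direction. -/
theorem det_eq_zero (A : Matrix (Fin d) (Fin n) K) (m : ℕ) (i : Fin d)
    (h : (i : ℕ) + 1 ≤ finrank K (LinearMap.ker (cut A m).vecMulLinear))
    (J : Fin d → Fin n) (hJ : StrictMono J) (hi : m ≤ (J i : ℕ)) : (A.submatrix id J).det = 0 := by
  by_contra hdet
  set B := A.submatrix id J with hB
  have hBinj : Function.Injective B.vecMul := by
    apply vecMul_injective_of_isUnit
    rw [isUnit_iff_isUnit_det]
    exact isUnit_iff_ne_zero.mpr hdet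
  let g : LinearMap.ker (cut A m).vecMulLinear →ₗ[K] (Fin (i : ℕ) → K) :=
    { toFun := fun x j => (x.1 ᵥ* B) ⟨j, j.2.trans i.2⟩
      map_add' := fun x y => by
        funext j
        simp only [Submodule.coe_add, add_vecMul, Pi.add_apply]
      map_smul' := fun c x => by
        funext j
        simp only [Submodule.coe_smul, smul_vecMul, Pi.smul_apply, RingHom.id_apply] }
  have hg : Function.Injective g := by
    rw [← LinearMap.ker_eq_bot, LinearMap.ker_eq_bot']
    intro x hx
    apply Subtype.ext
    apply hBinj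
    change x.1 ᵥ* B = ((0 : LinearMap.ker (cut A m).vecMulLinear) : Fin d → K) ᵥ* B
    rw [Submodule.coe_zero, zero_vecMul]
    funext j
    by_cases hj : (j : ℕ) < (i : ℕ)
    · exact congrFun hx ⟨j, hj⟩
    · have h1 : i ≤ j := not_lt.mp hj
      have h2 : m ≤ (J j : ℕ) := hi.trans (hJ.monotone h1)
      exact congrFun (LinearMap.mem_ker.mp x.2) ⟨J j, h2⟩
  have h3 := LinearMap.finrank_le_finrank_of_injective hg
  rw [finrank_fin_fun] at h3
  omega

/-- The other direction. -/
theorem exists_det_ne_zero (A : Matrix (Fin d) (Fin n) K)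
    (hA : LinearIndependent K (fun i : Fin d => A i)) (m : ℕ) (i : Fin d)
    (h : ¬ ((i : ℕ) + 1 ≤ finrank K (LinearMap.ker (cut A m).vecMulLinear))) :
    ∃ J : Fin d → Fin n, StrictMono J ∧ m ≤ (J i : ℕ) ∧ (A.submatrix id J).det ≠ 0 := by
  classical
  have hrk := finrank_ker_add_rank A m
  -- an independent set of columns spanning the columns `≥ m`
  let S : Set (Fin n) := {l | m ≤ (l : ℕ)}
  obtain ⟨T₀, hT₀S, -, hST₀, hT₀⟩ := exists_linearIndepOn_extension (K := K) (v := A.col)
    (linearIndepOn_empty K A.col) (Set.empty_subset S)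
  obtain ⟨T, -, hT₀T, hT, hTi⟩ := exists_linearIndepOn_extension (K := K) (v := A.col) hT₀
    (Set.subset_univ T₀)
  -- cardinality of `T₀`
  have hc1 : (cut A m).rank = finrank K (Submodule.span K (A.col '' S)) := by
    rw [rank_eq_finrank_span_cols]
    have h1 : Set.range (cut A m).col = A.col '' S := by
      ext v
      constructor
      · rintro ⟨l, rfl⟩
        exact ⟨l.1, l.2, rfl⟩
      · rintro ⟨l, hl, rfl⟩
        exact ⟨⟨l, hl⟩, rfl⟩
    rw [h1]
  have hc2 : Submodule.span K (A.col '' S) = Submodule.span K (A.col '' T₀) :=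
    le_antisymm (Submodule.span_le.mpr hST₀) (Submodule.span_mono (Set.image_mono hT₀S))
  have hc3 : finrank K (Submodule.span K (A.col '' T₀)) = T₀.toFinset.card := by
    have h1 := finrank_span_eq_card (R := K) (b := fun x : T₀ => A.col x) hT₀
    rw [← Set.image_eq_range] at h1
    rw [h1, Set.toFinset_card]
  have hc4 : Submodule.span K (A.col '' T) = ⊤ := by
    have h1 : Submodule.span K (Set.range A.col) = ⊤ := by
      apply Submodule.eq_top_of_finrank_eq
      rw [← rank_eq_finrank_span_cols, finrank_fin_fun, rank_eq_finrank_span_row]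
      have := finrank_span_eq_card hA
      rw [Fintype.card_fin] at this
      exact this
    rw [eq_top_iff, ← h1, ← Set.image_univ]
    exact Submodule.span_le.mpr hT
  have hc5 : T.toFinset.card = d := by
    have h1 := finrank_span_eq_card (R := K) (b := fun x : T => A.col x) hTi
    rw [← Set.image_eq_range, hc4, finrank_top, finrank_fin_fun] at h1
    rw [Set.toFinset_card, ← h1]
  let J := T.toFinset.orderEmbOfFin hc5
  refine ⟨J, J.strictMono, ?_, ?_⟩
  · by_contra hi
    push Not at hi
    -- the elements `J 0, ..., J i` are `< m`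
    have h1 : (Finset.image J (Finset.Iic i)) ⊆ T.toFinset \ T₀.toFinset := by
      intro x hx
      rw [Finset.mem_image] at hx
      obtain ⟨j, hj, rfl⟩ := hx
      rw [Finset.mem_sdiff]
      refine ⟨Finset.orderEmbOfFin_mem _ _ _, fun hmem => ?_⟩
      rw [Set.mem_toFinset] at hmem
      have h2 : m ≤ (J j : ℕ) := hT₀S hmem
      have h3 : (J j : ℕ) ≤ (J i : ℕ) := J.monotone (Finset.mem_Iic.mp hj)
      omega
    have h2 := Finset.card_le_card h1
    rw [Finset.card_image_of_injective _ J.injective, Fin.card_Iic, Finset.card_sdiff_of_subset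
      (Set.toFinset_subset_toFinset.mpr hT₀T), hc5, ← hc3, ← hc2, ← hc1] at h2
    have := i.2
    omega
  · have h1 : LinearIndependent K (A.submatrix id J).col := by
      have h2 : (A.submatrix id J).col = (fun x : T => A.col x) ∘
          (fun j : Fin d => (⟨J j, Set.mem_toFinset.mp (Finset.orderEmbOfFin_mem _ hc5 j)⟩ : T)) := rfl
      rw [h2]
      refine LinearIndependent.comp hTi _ (fun a b hab => ?_)
      exact J.injective (Subtype.mk.inj hab)
    have h2 := linearIndependent_cols_iff_isUnit.mp h1
    rw [isUnit_iff_isUnit_det] at h2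
    exact h2.ne_zero

end K712.SchubertMinor
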