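import Groth.Agent.Krr.H458.SecP1
import Groth.Prelude.Def_P1

/-!
# The frozen sections `P1.sect` of `P^1` are the sections `Krr.H458.SecP1.sec`
-/

set_option autoImplicit false
universe u
open CategoryTheory CategoryTheory.Limits AlgebraicGeometry MvPolynomial

namespace K712.SectSec

open Groth.Agent.Sga5.ProjChart Groth.Agent.Sga5.ProjSmooth Groth.Agent.Krr.H458.SecPt
open Groth.Agent.Krr.H458.SecP1

theorem ringHom_ext_uliftInt {R : Type*} [CommRing R] (f g : ULift.{u} ℤ →+* R) : f = g := by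
  ext z
  obtain ⟨z, rfl⟩ := (ULift.ringEquiv : ULift.{u} ℤ ≃+* ℤ).symm.surjective z
  exact congr($(RingHom.ext_int (f.comp (ULift.ringEquiv : ULift.{u} ℤ ≃+* ℤ).symm.toRingHom)
    (g.comp (ULift.ringEquiv : ULift.{u} ℤ ≃+* ℤ).symm.toRingHom)) z)

theorem evalAway_val (i : Fin (1 + 1)) (p : MvPolynomial (Fin (1 + 1)) (ULift.{u} ℤ))
    (z : HomogeneousLocalization.Away P1.grading.{u} (P1.T i))
    (hz : z.val * algebraMap _ _ (P1.T.{u} i) = algebraMap _ _ p) :
    P1.evalAway i z = aeval (Pi.single i (1 : ULift.{u} ℤ) : Fin (1 + 1) → ULift.{u} ℤ) p := by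
  have hu : IsUnit ((aeval (Pi.single i (1 : ULift.{u} ℤ) : Fin (1 + 1) → ULift.{u} ℤ)).toRingHom
    (P1.T.{u} i)) := by simp
  let L := IsLocalization.Away.lift (S := Localization.Away (P1.T.{u} i)) (P1.T.{u} i)
      (g := (MvPolynomial.aeval (Pi.single i (1 : ULift.{u} ℤ) : Fin (1 + 1) → ULift.{u} ℤ)).toRingHom) hu
  have h1 : L (z.val * algebraMap _ _ (P1.T.{u} i)) = L (algebraMap _ _ p) := congrArg L hz
  rw [map_mul, IsLocalization.Away.lift_eq, IsLocalization.Away.lift_eq] at h1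
  have h2 : (MvPolynomial.aeval (Pi.single i (1 : ULift.{u} ℤ) : Fin (1 + 1) → ULift.{u} ℤ)).toRingHom
      (P1.T.{u} i) = 1 := by simp
  rw [h2, mul_one] at h1
  exact h1

theorem point_eq (i : Fin (1 + 1)) : P1.point.{u} i = pt (ULift.{u} ℤ) i := by
  rw [P1.point, pt, chart, ← Category.assoc, ← Spec.map_comp, ← CommRingCat.ofHom_comp]
  congr 3
  have h1 : (P1.evalAway i).comp (chartEquiv 1 (ULift.{u} ℤ) i).toRingHom =
      (constantCoeff : MvPolynomial (Fin 1) (ULift.{u} ℤ) →+* ULift.{u} ℤ) := by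
    apply MvPolynomial.ringHom_ext
    · intro r
      exact congr($(ringHom_ext_uliftInt (((P1.evalAway i).comp
        (chartEquiv 1 (ULift.{u} ℤ) i).toRingHom).comp C) (constantCoeff.comp C)) r)
    · intro j
      have h2 : P1.evalAway i (coord 1 (ULift.{u} ℤ) i (i.succAbove j)) =
          aeval (Pi.single i (1 : ULift.{u} ℤ) : Fin (1 + 1) → ULift.{u} ℤ) (X (i.succAbove j)) :=
        evalAway_val i _ _ (val_coord_mul 1 (ULift.{u} ℤ) i (i.succAbove j))
      rw [constantCoeff_X]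
      change P1.evalAway i (chartEquiv 1 (ULift.{u} ℤ) i (X j)) = 0
      rw [chartEquiv_X]
      refine h2.trans ?_
      rw [aeval_X, Pi.single_apply, if_neg (Fin.succAbove_ne i j)]
  rw [← h1]
  ext z
  simp

theorem sect_eq (X : Scheme.{u}) (i : Fin (1 + 1)) : P1.sect X i = sec i X := by
  rw [P1.sect, sec]
  congr 1
  rw [point_eq]

theorem toP1_eq {X Y : Scheme.{u}} (f : X ⟶ Y) : P1.toP1 f = KRR.projSpaceMap 1 f := rfl

end K712.SectSec
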