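import Groth.Agent.MiscA.LenDet
import Mathlib.RingTheory.OrderOfVanishing.Noetherian
import Mathlib.LinearAlgebra.Quotient.Pi
import Mathlib.LinearAlgebra.Matrix.ToLinearEquiv
import Mathlib.LinearAlgebra.Matrix.ToLin

/-!
# The length of the cokernel of a semilinear map over a discrete valuation ring
-/

set_option autoImplicit false

open Matrix

namespace K712.SemiLen

variable {B : Type*} [CommRing B] [IsDomain B] [IsDiscreteValuationRing B]

variable (B) in
theorem length_self : Module.length B B = ⊤ := by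
  have h := Ring.ord_eq_addVal (R := B) 0
  rw [IsDiscreteValuationRing.addVal_zero, Ring.ord] at h
  rw [← h]
  refine (Submodule.quotEquivOfEqBot _ ?_).length_eq.symm
  rw [Ideal.span_singleton_zero]

theorem length_coker_eq_addVal {n : ℕ} (A : Matrix (Fin n) (Fin n) B) :
    Module.length B ((Fin n → B) ⧸ LinearMap.range A.mulVecLin) =
      IsDiscreteValuationRing.addVal B A.det := by
  by_cases hA : A.det = 0
  · rw [hA, IsDiscreteValuationRing.addVal_zero, eq_top_iff]
    obtain ⟨v, hv0, hv⟩ := Matrix.exists_vecMul_eq_zero_iff.mpr hA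
    let f : ((Fin n → B) ⧸ LinearMap.range A.mulVecLin) →ₗ[B] B :=
      Submodule.liftQ _ (dotProductBilin B B v) (by
        rintro _ ⟨x, rfl⟩
        rw [LinearMap.mem_ker]
        change v ⬝ᵥ (A *ᵥ x) = 0
        rw [dotProduct_mulVec, hv, zero_dotProduct])
    obtain ⟨i, hi⟩ : ∃ i, v i ≠ 0 := by
      by_contra h
      push Not at h
      exact hv0 (funext h)
    let g : B →ₗ[B] ((Fin n → B) ⧸ LinearMap.range A.mulVecLin) :=
      LinearMap.toSpanSingleton B _ (Submodule.Quotient.mk (Pi.single i 1))
    have hg : Function.Injective (f ∘ₗ g) := by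
      rw [← LinearMap.ker_eq_bot, LinearMap.ker_eq_bot']
      intro b hb
      have h1 : (f ∘ₗ g) b = b * v i := by
        change f (b • Submodule.Quotient.mk (Pi.single i 1)) = b * v i
        rw [map_smul, smul_eq_mul]
        congr 1
        change v ⬝ᵥ (Pi.single i 1) = v i
        rw [dotProduct_single, mul_one]
      rw [h1] at hb
      exact (mul_eq_zero.mp hb).resolve_right hi
    rw [LinearMap.coe_comp] at hg
    rw [← length_self B]
    exact Module.length_le_of_injective g hg.of_comp
  · have h := Groth.Agent.MiscA.LenDet.cokerLen_eq_ord_det A (mem_nonZeroDivisors_of_ne_zero hA)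
    rw [Ring.ord_eq_addVal] at h
    exact h

section Semi

variable {M N : Type*} [AddCommGroup M] [Module B M] [AddCommGroup N] [Module B N]
  (ω : B ≃+* B) (χ : M →+ N) (hχ : ∀ (b : B) (x : M), χ (b • x) = ω b • χ x)

/-- The range of a semilinear map, a submodule. -/
def rng : Submodule B N where
  carrier := Set.range χ
  add_mem' := by
    rintro _ _ ⟨x, rfl⟩ ⟨y, rfl⟩
    exact ⟨x + y, map_add _ _ _⟩
  zero_mem' := ⟨0, map_zero _⟩
  smul_mem' := by
    rintro b _ ⟨x, rfl⟩
    exact ⟨ω.symm b • x, by rw [hχ, RingEquiv.apply_symm_apply]⟩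

theorem length_rng {r : ℕ} (bM : Module.Basis (Fin r) B M) (bN : Module.Basis (Fin r) B N) :
    Module.length B (N ⧸ rng ω χ hχ) = IsDiscreteValuationRing.addVal B (Matrix.det
      (Matrix.of fun (a c : Fin r) => bN.repr (χ (bM c)) a)) := by
  rw [← length_coker_eq_addVal]
  set A := Matrix.of fun (a c : Fin r) => bN.repr (χ (bM c)) a with hA
  have key : ∀ x : M, bN.equivFun (χ x) = A *ᵥ (fun c => ω (bM.repr x c)) := by
    intro x
    conv_lhs => rw [← bM.sum_repr x]
    rw [map_sum, map_sum]
    funext a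
    rw [Finset.sum_apply, Matrix.mulVec, dotProduct]
    refine Finset.sum_congr rfl fun c _ => ?_
    rw [hχ, map_smul, Pi.smul_apply, smul_eq_mul, mul_comm, hA, Matrix.of_apply,
      Module.Basis.equivFun_apply]
  refine (Submodule.Quotient.equiv _ _ bN.equivFun ?_).length_eq
  ext y
  constructor
  · rintro ⟨_, ⟨x, rfl⟩, rfl⟩
    exact ⟨fun c => ω (bM.repr x c), (key x).symm⟩
  · rintro ⟨z, rfl⟩
    refine ⟨_, ⟨bM.equivFun.symm (fun c => ω.symm (z c)), rfl⟩, ?_⟩
    change bN.equivFun _ = A *ᵥ z
    rw [key]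
    congr 1
    funext c
    rw [← Module.Basis.equivFun_apply, LinearEquiv.apply_symm_apply, RingEquiv.apply_symm_apply]

end Semi

theorem addVal_prod {ι : Type*} (s : Finset ι) (f : ι → B) :
    IsDiscreteValuationRing.addVal B (∏ h ∈ s, f h) =
      ∑ h ∈ s, IsDiscreteValuationRing.addVal B (f h) := by
  classical
  induction s using Finset.induction_on with
  | empty => rw [Finset.prod_empty, Finset.sum_empty, IsDiscreteValuationRing.addVal_one]
  | insert a s ha ih =>
    rw [Finset.prod_insert ha, Finset.sum_insert ha, IsDiscreteValuationRing.addVal_mul, ih]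

theorem length_pi_rng (ω : B ≃+* B) {n : ℕ} (r : Fin n → ℕ)
    (M N : Fin n → Type*) [∀ i, AddCommGroup (M i)] [∀ i, Module B (M i)]
    [∀ i, AddCommGroup (N i)] [∀ i, Module B (N i)]
    (bM : ∀ i, Module.Basis (Fin (r i)) B (M i)) (bN : ∀ i, Module.Basis (Fin (r i)) B (N i))
    (χ : ∀ i, M i →+ N i) (hχ : ∀ i (b : B) (x : M i), χ i (b • x) = ω b • χ i x) :
    Module.length B ((∀ i, N i) ⧸ Submodule.span B
      (Set.range (fun (x : ∀ i, M i) (i : Fin n) => χ i (x i)))) =
      IsDiscreteValuationRing.addVal B (∏ i, Matrix.det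
        (Matrix.of fun (a c : Fin (r i)) => (bN i).repr (χ i (bM i c)) a)) := by
  have h1 : Submodule.span B (Set.range (fun (x : ∀ i, M i) (i : Fin n) => χ i (x i))) =
      Submodule.pi Set.univ (fun i => rng ω (χ i) (hχ i)) := by
    apply le_antisymm
    · rw [Submodule.span_le]
      rintro _ ⟨x, rfl⟩
      intro i _
      exact ⟨x i, rfl⟩
    · intro y hy
      apply Submodule.subset_span
      choose x hx using fun i => hy i (Set.mem_univ i)
      exact ⟨x, funext hx⟩
  rw [h1, (Submodule.quotientPi _).length_eq, Module.length_pi_of_fintype, addVal_prod]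
  exact Finset.sum_congr rfl fun i _ => length_rng ω (χ i) (hχ i) (bM i) (bN i)

end K712.SemiLen
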