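import Groth.Agent.Flat2G.SliceSeq
import Groth.Agent.Krr.H501.BlowSeq

/-!
# Regular sequences on the charts of a blow-up

`A` a ring, `f_0, …, f_d` a weakly regular sequence, `I = (f)`, `B = A[I/f_k]`, `c ≤ k`: the
elements `f_i / f_k`, `i < c`, form a weakly regular sequence of `B` and `f_k` is a nonzerodivisor
modulo them.
-/

set_option autoImplicit false
universe u

open RingTheory.Sequence MvPolynomial BlowUp

namespace K712.StrictAlg

open Groth.Agent Groth.Agent.Flat2G.SliceSeq Groth.Agent.Sga67 Groth.Agent.Divis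

section Perm

variable {B : Type*} [CommRing B]

/-- regularity after inverting `t` -/
def RegLoc (t : B) : Ideal B → List B → Prop
  | _, [] => True
  | I, h :: l => (∀ b, h * b ∈ I → ∃ n : ℕ, t ^ n * b ∈ I) ∧ RegLoc t (I ⊔ Ideal.span {h}) l

theorem mem_of_pow_mul_mem {t : B} {J : Ideal B} (ht : ∀ y, t * y ∈ J → y ∈ J) (n : ℕ) {y : B}
    (hy : t ^ n * y ∈ J) : y ∈ J := by
  induction n with
  | zero => simpa using hy
  | succ n ih =>
    apply ih
    apply ht
    rw [← mul_assoc, ← pow_succ']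
    exact hy

theorem regMod_of_regLoc (t : B) (l : List B) : ∀ (J : Ideal B), (∀ y, t * y ∈ J → y ∈ J) →
    RegMod (J ⊔ Ideal.span {t}) l → RegLoc t J l →
    RegMod J l ∧ ∀ y, t * y ∈ J ⊔ Ideal.ofList l → y ∈ J ⊔ Ideal.ofList l := by
  induction l with
  | nil =>
    intro J ht _ _
    refine ⟨trivial, fun y hy => ?_⟩
    rw [Ideal.ofList_nil, sup_bot_eq] at hy ⊢
    exact ht y hy
  | cons h l ih =>
    rintro J ht ⟨h1, h2⟩ ⟨h3, h4⟩
    have hh : ∀ b, h * b ∈ J → b ∈ J := by
      intro b hb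
      obtain ⟨n, hn⟩ := h3 b hb
      exact mem_of_pow_mul_mem ht n hn
    have ht' : ∀ y, t * y ∈ J ⊔ Ideal.span {h} → y ∈ J ⊔ Ideal.span {h} := by
      intro y hy
      obtain ⟨j, hj, z', hz', hjz⟩ := Submodule.mem_sup.1 hy
      obtain ⟨z, rfl⟩ := Ideal.mem_span_singleton'.1 hz'
      have h5 : h * z ∈ J ⊔ Ideal.span {t} := by
        have : h * z = -j + y * t := by linear_combination hjz
        rw [this]
        exact Submodule.add_mem_sup (J.neg_mem hj) (Ideal.mul_mem_left _ _
          (Ideal.mem_span_singleton_self t))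
      obtain ⟨j', hj', w', hw', hjw⟩ := Submodule.mem_sup.1 (h1 z h5)
      obtain ⟨w, rfl⟩ := Ideal.mem_span_singleton'.1 hw'
      have h6 : t * (y - w * h) ∈ J := by
        have : t * (y - w * h) = j + j' * h := by linear_combination (-1) * hjz + (-h) * hjw
        rw [this]
        exact J.add_mem hj (J.mul_mem_right _ hj')
      have h7 := ht _ h6
      have h8 : y = (y - w * h) + w * h := by ring
      rw [h8]
      exact Submodule.add_mem_sup h7 (Ideal.mul_mem_left _ _ (Ideal.mem_span_singleton_self h))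
    have h2' : RegMod ((J ⊔ Ideal.span {h}) ⊔ Ideal.span {t}) l := by
      rw [sup_assoc, sup_comm (Ideal.span {h}), ← sup_assoc]
      exact h2
    obtain ⟨h5, h6⟩ := ih (J ⊔ Ideal.span {h}) ht' h2' h4
    refine ⟨⟨hh, h5⟩, fun y hy => ?_⟩
    rw [Ideal.ofList_cons, ← sup_assoc] at hy ⊢
    exact h6 y hy

end Perm

section Frac

variable {A B : Type*} [CommRing A] [CommRing B] (α : A →+* B) (a : A)

/-- `B` lies between `A` modulo torsion and `A[1/a]` -/
structure IsFrac : Prop where
  cancel : ∀ β : B, α a * β = 0 → β = 0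
  exists_eq : ∀ β : B, ∃ (n : ℕ) (m : A), α a ^ n * β = α m
  eq_zero : ∀ m : A, α m = 0 → ∃ n : ℕ, a ^ n * m = 0

variable {α a}

theorem IsFrac.regLoc_aux (H : IsFrac α a) : ∀ (s x : List _),
    List.Forall₂ (fun s x => α a * x = α s) s x → ∀ (JA : Ideal A) (JB : Ideal B),
    JA.map α ≤ JB → (∀ m, α m ∈ JB → ∃ n : ℕ, a ^ n * m ∈ JA) →
    RegMod JA s → RegLoc (α a) JB x := by
  intro s x hsx
  induction hsx with
  | nil => intros; trivial
  | @cons s₀ x₀ s x h0 hsx ih =>
    rintro JA JB h1 h2 ⟨h3, h4⟩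
    refine ⟨fun y hy => ?_, ih (JA ⊔ Ideal.span {s₀}) (JB ⊔ Ideal.span {x₀}) ?_ ?_ h4⟩
    · obtain ⟨n, m, hm⟩ := H.exists_eq y
      have h5 : α (s₀ * m) ∈ JB := by
        rw [map_mul, ← h0, ← hm]
        have : α a * x₀ * (α a ^ n * y) = α a ^ (n + 1) * (x₀ * y) := by ring
        rw [this]
        exact JB.mul_mem_left _ hy
      obtain ⟨N, hN⟩ := h2 _ h5
      have h6 : a ^ N * m ∈ JA := h3 _ (by
        have : s₀ * (a ^ N * m) = a ^ N * (s₀ * m) := by ring
        rw [this]; exact hN)
      refine ⟨N + n, ?_⟩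
      have h7 : α a ^ (N + n) * y = α (a ^ N * m) := by
        rw [map_mul, map_pow, ← hm, pow_add, mul_assoc]
      rw [h7]
      exact h1 (Ideal.mem_map_of_mem _ h6)
    · rw [Ideal.map_sup, Ideal.map_span, Set.image_singleton, ← h0]
      refine sup_le_sup h1 ?_
      rw [Ideal.span_singleton_le_span_singleton]
      exact Dvd.intro_left _ rfl
    · intro m hm
      obtain ⟨j, hj, z', hz', hjz⟩ := Submodule.mem_sup.1 hm
      obtain ⟨y, rfl⟩ := Ideal.mem_span_singleton'.1 hz'
      obtain ⟨n, m', hm'⟩ := H.exists_eq y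
      have h5 : α (a ^ (n + 1) * m - s₀ * m') ∈ JB := by
        have : α (a ^ (n + 1) * m - s₀ * m') = α a ^ (n + 1) * j := by
          rw [map_sub, map_mul, map_mul, map_pow, ← hm', ← hjz, ← h0]
          ring
        rw [this]
        exact JB.mul_mem_left _ hj
      obtain ⟨N, hN⟩ := h2 _ h5
      refine ⟨N + (n + 1), ?_⟩
      have h6 : a ^ (N + (n + 1)) * m = a ^ N * (a ^ (n + 1) * m - s₀ * m') + (a ^ N * m') * s₀ := by
        ring
      rw [h6]
      exact Submodule.add_mem_sup hN (Ideal.mul_mem_left _ _ (Ideal.mem_span_singleton_self s₀))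

theorem IsFrac.regLoc (H : IsFrac α a) {s : List A} {x : List B}
    (hsx : List.Forall₂ (fun s x => α a * x = α s) s x) (hs : IsWeaklyRegular A s) :
    RegLoc (α a) ⊥ x := by
  refine H.regLoc_aux s x hsx ⊥ ⊥ (by rw [Ideal.map_bot]) ?_
    ((isWeaklyRegular_iff_regMod_bot s).1 hs)
  intro m hm
  obtain ⟨n, hn⟩ := H.eq_zero m hm
  exact ⟨n, hn⟩

/-- The main statement on sequences. -/
theorem IsFrac.main (H : IsFrac α a) {s : List A} {x : List B}
    (hsx : List.Forall₂ (fun s x => α a * x = α s) s x) (hs : IsWeaklyRegular A s)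
    (hx : IsWeaklyRegular B (α a :: x)) :
    IsWeaklyRegular B x ∧ ∀ y, α a * y ∈ Ideal.ofList x → y ∈ Ideal.ofList x := by
  rw [isWeaklyRegular_iff_regMod_bot] at hx ⊢
  obtain ⟨h1, h2⟩ := regMod_of_regLoc (α a) x ⊥ (fun y hy => H.cancel y hy) hx.2 (H.regLoc hsx hs)
  rw [bot_sup_eq] at h2
  exact ⟨h1, h2⟩

/-- Kernel computation. -/
theorem IsFrac.ker_eq {A' B' : Type*} [CommRing A'] [CommRing B'] {α' : A' →+* B'} {φ : A →+* A'}
    {κ : B →+* B'} (H : IsFrac α a) (H' : IsFrac α' (φ a)) (hcomm : ∀ m, κ (α m) = α' (φ m))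
    {s : List A} {x : List B} (hsx : List.Forall₂ (fun s x => α a * x = α s) s x)
    (hφ : RingHom.ker φ = Ideal.ofList s)
    (hx : ∀ y, α a * y ∈ Ideal.ofList x → y ∈ Ideal.ofList x) :
    RingHom.ker κ = Ideal.ofList x := by
  have hs : ∀ s₀ ∈ s, φ s₀ = 0 := by
    intro s₀ h
    have : s₀ ∈ RingHom.ker φ := by rw [hφ]; exact Ideal.subset_span h
    exact this
  have hle : (Ideal.ofList s).map α ≤ Ideal.ofList x := by
    clear hφ hx hs
    induction hsx with
    | nil => simp
    | @cons s₀ x₀ s x h0 hsx ih =>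
      rw [Ideal.ofList_cons, Ideal.ofList_cons, Ideal.map_sup, Ideal.map_span, Set.image_singleton,
        ← h0]
      refine sup_le_sup ?_ ih
      rw [Ideal.span_singleton_le_span_singleton]
      exact Dvd.intro_left _ rfl
  apply le_antisymm
  · intro q hq
    obtain ⟨n, m, hm⟩ := H.exists_eq q
    have h1 : α' (φ m) = 0 := by
      rw [← hcomm, ← hm, map_mul, (RingHom.mem_ker).1 hq, mul_zero]
    obtain ⟨N, hN⟩ := H'.eq_zero _ h1
    have h2 : a ^ N * m ∈ Ideal.ofList s := by
      rw [← hφ, RingHom.mem_ker, map_mul, map_pow, hN]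
    have h3 : α a ^ (N + n) * q ∈ Ideal.ofList x := by
      have : α a ^ (N + n) * q = α (a ^ N * m) := by
        rw [map_mul, map_pow, ← hm, pow_add, mul_assoc]
      rw [this]
      exact hle (Ideal.mem_map_of_mem _ h2)
    exact mem_of_pow_mul_mem hx _ h3
  · clear hx hφ hle
    induction hsx with
    | nil => simp
    | @cons s₀ x₀ s x h0 hsx ih =>
      rw [Ideal.ofList_cons, sup_le_iff, Ideal.span_singleton_le_iff_mem]
      refine ⟨?_, ih fun z hz => hs z (List.mem_cons_of_mem _ hz)⟩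
      rw [RingHom.mem_ker]
      apply H'.cancel
      rw [← hcomm, ← map_mul, h0, hcomm, hs s₀ List.mem_cons_self, map_zero]

end Frac

section Chart

variable {A : Type u} [CommRing A]

/-- All the fractions `f_i / f_k`, `i ≠ k`, in order, preceded by `f_k`. -/
theorem isWeaklyRegular_fr {d : ℕ} (f : Fin (d + 1) → A) (k : Fin (d + 1))
    (hf : CAlgX.IsQuasiRegular f) :
    IsWeaklyRegular (affineAlgebra A (Ideal.span (Set.range f)) (f k))
      (algebraMap A (affineAlgebra A (Ideal.span (Set.range f)) (f k)) (f k) ::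
        List.ofFn fun i : Fin d => BlowQuot.fr f k (k.succAbove i)) := by
  let e : Fin d ≃ {i : Fin (d + 1) // i ≠ k} := finSuccAboveEquiv k
  have he : ∀ i, (e i).1 = k.succAbove i := fun i => rfl
  have hreg : IsWeaklyRegular (affineAlgebra A (Ideal.span (Set.range f)) (f k))
      [algebraMap A (affineAlgebra A (Ideal.span (Set.range f)) (f k)) (f k)] := by
    rw [isWeaklyRegular_singleton_iff]
    have := BlowAlg.algebraMap_mem_nonZeroDivisors (Ideal.span (Set.range f)) (f k)
    intro a b hab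
    exact (mul_cancel_left_mem_nonZeroDivisors this).1 hab
  let φ : affineAlgebra A (Ideal.span (Set.range f)) (f k) →+*
      MvPolynomial {i : Fin (d + 1) // i ≠ k} (A ⧸ Ideal.span (Set.range f)) :=
    (BlowQuot.quotEquiv k hf).toRingHom.comp (Ideal.Quotient.mk _)
  have hφ : Function.Surjective φ :=
    (BlowQuot.quotEquiv k hf).surjective.comp Ideal.Quotient.mk_surjective
  have hker : RingHom.ker φ = Ideal.ofList
      [algebraMap A (affineAlgebra A (Ideal.span (Set.range f)) (f k)) (f k)] := by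
    rw [Ideal.ofList_singleton]
    ext q
    rw [RingHom.mem_ker]
    change BlowQuot.quotEquiv k hf (Ideal.Quotient.mk _ q) = 0 ↔ _
    rw [EmbeddingLike.map_eq_zero_iff, Ideal.Quotient.eq_zero_iff_mem]
  have h1 : algebraMap A (affineAlgebra A (Ideal.span (Set.range f)) (f k)) (f k) ::
      List.ofFn (fun i : Fin d => BlowQuot.fr f k (k.succAbove i)) =
      [algebraMap A (affineAlgebra A (Ideal.span (Set.range f)) (f k)) (f k)] ++
      List.ofFn (fun i : Fin d => BlowQuot.fr f k (k.succAbove i)) := rfl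
  rw [h1, RegImm.isWeaklyRegular_append_of_surjective φ hφ _ _ hker]
  refine ⟨hreg, ?_⟩
  rw [List.map_ofFn]
  have h2 : (⇑φ ∘ fun i : Fin d => BlowQuot.fr f k (k.succAbove i)) = fun i => X (e i) := by
    funext i
    have h3 : BlowQuot.fr f k (k.succAbove i) = BlowQuot.Φ f k (X (e i)) := by
      unfold BlowQuot.Φ
      rw [aeval_X, he]
    change BlowQuot.quotEquiv k hf (Ideal.Quotient.mk _ (BlowQuot.fr f k (k.succAbove i))) = _
    rw [h3]
    have h4 : (RingHom.quotientKerEquivOfSurjective (BlowQuot.Ψ_surjective f k)).symm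
        (BlowQuot.Ψ f k (X (e i))) = Ideal.Quotient.mk _ (X (e i)) := by
      rw [RingEquiv.symm_apply_eq]
      rfl
    change BlowQuot.quotEquiv k hf (BlowQuot.Ψ f k (X (e i))) = _
    unfold BlowQuot.quotEquiv
    rw [RingEquiv.trans_apply, RingEquiv.trans_apply, h4]
    change (quotientEquivQuotientMvPolynomial (σ := {i : Fin (d + 1) // i ≠ k})
      (Ideal.span (Set.range f))).symm (Ideal.Quotient.mk _ (X (e i))) = _
    rw [AlgEquiv.symm_apply_eq]
    change _ = eval₂Hom _ _ _
    simp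
  rw [h2]
  exact Krr.H501.BlowSeq.isWeaklyRegular_X_equiv e _

/-- The fractions `f_i / f_k`, `i < c ≤ k`. -/
theorem exists_chart_list {d : ℕ} (f : Fin (d + 1) → A) (k : Fin (d + 1)) (c : ℕ) (hc : c ≤ k)
    (hf : IsWeaklyRegular A (List.ofFn f)) (I : Ideal A) (hI : I = Ideal.span (Set.range f)) :
    ∃ x : List (affineAlgebra A I (f k)),
      List.Forall₂ (fun s x => algebraMap A (affineAlgebra A I (f k)) (f k) * x =
        algebraMap A (affineAlgebra A I (f k)) s) ((List.ofFn f).take c) x ∧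
      IsWeaklyRegular (affineAlgebra A I (f k))
        (algebraMap A (affineAlgebra A I (f k)) (f k) :: x) := by
  subst hI
  have h1 := isWeaklyRegular_fr f k (BlowReg.isQuasiRegular_of_isWeaklyRegular f hf)
  refine ⟨(List.ofFn fun i : Fin d => BlowQuot.fr f k (k.succAbove i)).take c, ?_, ?_⟩
  · have hk : (k : ℕ) ≤ d := Nat.lt_succ_iff.1 k.2
    rw [List.forall₂_iff_get]
    refine ⟨by simp; omega, fun i h1 h2 => ?_⟩
    have hi : i < c := by simp at h1; omega
    have hid : i < d := by omega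
    simp only [List.get_eq_getElem, List.getElem_take, List.getElem_ofFn]
    rw [BlowQuot.fr_spec]
    congr 2
    rw [Fin.succAbove_of_castSucc_lt]
    · rfl
    · rw [Fin.lt_def]
      simp
      omega
  · have h2 := h1
    rw [← List.take_append_drop c (List.ofFn fun i : Fin d => BlowQuot.fr f k (k.succAbove i)),
      ← List.cons_append, isWeaklyRegular_append_iff] at h2
    exact h2.1

end Chart

end K712.StrictAlg
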