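import Mathlib.NumberTheory.Bernoulli
import Mathlib.RingTheory.PowerSeries.Derivative
import Mathlib.RingTheory.Binomial

/-!
# Coefficients of `e^(mt) f(t)^(n+1)` for the Todd series `f`
-/

set_option autoImplicit false

open PowerSeries

namespace K712.ToddSeries

/-- `e^(mt)`. -/
noncomputable def ex (m : ℤ) : ℚ⟦X⟧ := rescale (m : ℚ) (exp ℚ)

theorem ex_add (m n : ℤ) : ex (m + n) = ex m * ex n := by
  unfold ex
  rw [exp_mul_exp_eq_exp_add]
  push_cast
  rfl

theorem ex_zero : ex 0 = 1 := by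
  unfold ex
  ext n
  rw [coeff_rescale, coeff_exp, coeff_one]
  split_ifs with h
  · subst h; simp
  · rw [Int.cast_zero, zero_pow h, zero_mul]

theorem ex_one : ex 1 = exp ℚ := by
  unfold ex
  rw [Int.cast_one, rescale_one]
  rfl

theorem constantCoeff_ex (m : ℤ) : constantCoeff (ex m) = 1 := by
  unfold ex
  rw [← coeff_zero_eq_constantCoeff_apply, coeff_rescale, coeff_exp]
  simp

theorem derivative_ex_neg_one : derivative ℚ (ex (-1)) = - ex (-1) := by
  have h1 : ex (-1) * exp ℚ = 1 := by rw [← ex_one, ← ex_add, neg_add_cancel, ex_zero]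
  have h2 := congrArg (derivative ℚ) h1
  rw [Derivation.leibniz, Derivation.map_one_eq_zero, derivative_exp, smul_eq_mul, smul_eq_mul] at h2
  have h3 : (derivative ℚ (ex (-1)) + ex (-1)) * exp ℚ = 0 := by
    rw [← h2]; ring
  have h4 : (exp ℚ) * ex (-1) = 1 := by rw [mul_comm]; exact h1
  have h5 : (derivative ℚ (ex (-1)) + ex (-1)) * exp ℚ * ex (-1) = 0 := by rw [h3, zero_mul]
  rw [mul_assoc, h4, mul_one] at h5
  exact eq_neg_of_add_eq_zero_left h5

section

variable {f : ℚ⟦X⟧} (hf : f * (exp ℚ - 1) = X * exp ℚ)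

include hf

theorem mul_one_sub : f * (1 - ex (-1)) = X := by
  have h1 : exp ℚ * ex (-1) = 1 := by rw [← ex_one, ← ex_add, add_neg_cancel, ex_zero]
  calc f * (1 - ex (-1)) = f * (exp ℚ - 1) * ex (-1) := by
        rw [mul_assoc, sub_mul, h1, one_mul]
    _ = X := by rw [hf, mul_assoc, h1, mul_one]

theorem ex_mul_sq : ex (-1) * f ^ 2 = f - X * derivative ℚ f := by
  have h1 := mul_one_sub hf
  have h2 := congrArg (derivative ℚ) h1
  rw [Derivation.leibniz, map_sub, Derivation.map_one_eq_zero, derivative_ex_neg_one, derivative_X,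
    smul_eq_mul, smul_eq_mul] at h2
  have h3 : f * (f * ex (-1)) + (f * (1 - ex (-1))) * derivative ℚ f = f := by
    linear_combination f * h2
  rw [h1] at h3
  rw [eq_sub_iff_add_eq]
  calc ex (-1) * f ^ 2 + X * derivative ℚ f = f * (f * ex (-1)) + X * derivative ℚ f := by ring
    _ = f := h3

theorem constantCoeff_eq_one : constantCoeff f = 1 := by
  have h := congrArg (coeff 1) hf
  have h0 : constantCoeff (exp ℚ - 1) = 0 := by simp
  have h1 : exp ℚ - 1 = X * (PowerSeries.mk fun n => coeff (n + 1) (exp ℚ)) := by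
    rw [← sub_const_eq_X_mul_shift]
    simp
  rw [h1, ← mul_assoc, mul_comm f, mul_assoc, mul_comm X, coeff_succ_mul_X, mul_comm X, coeff_succ_mul_X,
    coeff_zero_eq_constantCoeff_apply, coeff_zero_eq_constantCoeff_apply, map_mul] at h
  simpa using h

/-- The coefficient of `t^n` in `e^(mt) f^(n+1)`. -/
theorem coeff_ex_neg_one (n : ℕ) (hn : n ≠ 0) : coeff n (ex (-1) * f ^ (n + 1)) = 0 := by
  obtain ⟨n, rfl⟩ := Nat.exists_eq_succ_of_ne_zero hn
  have h1 : ex (-1) * f ^ (n + 1 + 1) = f ^ (n + 1) - X * (f ^ n * derivative ℚ f) := by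
    calc ex (-1) * f ^ (n + 1 + 1) = (ex (-1) * f ^ 2) * f ^ n := by ring
      _ = _ := by rw [ex_mul_sq hf]; ring
  have h2 : derivative ℚ (f ^ (n + 1)) = ((n + 1 : ℕ) : ℚ⟦X⟧) * (f ^ n * derivative ℚ f) := by
    rw [derivative_pow, Nat.add_sub_cancel, mul_assoc]
  have h3 := congrArg (coeff n) h2
  rw [coeff_derivative, ← nsmul_eq_mul, map_nsmul, nsmul_eq_mul] at h3
  rw [Nat.succ_eq_add_one, h1, map_sub, mul_comm X, coeff_succ_mul_X]
  have h4 : ((n + 1 : ℕ) : ℚ) ≠ 0 := by positivity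
  have h5 : ((n + 1 : ℕ) : ℚ) * (coeff (n + 1) (f ^ (n + 1)) - coeff n (f ^ n * derivative ℚ f)) = 0 := by
    rw [mul_sub, ← h3]
    push_cast
    ring
  exact (mul_eq_zero.mp h5).resolve_left h4

theorem coeff_rec (m : ℤ) (n : ℕ) : coeff (n + 1) (ex m * f ^ (n + 1 + 1)) =
    coeff (n + 1) (ex (m - 1) * f ^ (n + 1 + 1)) + coeff n (ex m * f ^ (n + 1)) := by
  have h1 : ex m * f ^ (n + 1 + 1) = ex (m - 1) * f ^ (n + 1 + 1) + (ex m * f ^ (n + 1)) * X := by
    rw [← mul_one_sub hf, sub_eq_add_neg m 1, ex_add]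
    ring
  rw [h1, map_add, coeff_succ_mul_X]

omit hf in
theorem choose_rec (m : ℤ) (n : ℕ) : Ring.choose (m + (n + 1 : ℕ) : ℤ) (n + 1) =
    Ring.choose (m - 1 + (n + 1 : ℕ) : ℤ) (n + 1) + Ring.choose (m + n : ℤ) n := by
  have h := Ring.choose_succ_succ (m + n : ℤ) n
  have e1 : (m + (n + 1 : ℕ) : ℤ) = m + n + 1 := by push_cast; ring
  have e2 : (m - 1 + (n + 1 : ℕ) : ℤ) = m + n := by push_cast; ring
  rw [e1, e2, h, add_comm]

theorem coeff_eq_choose (m : ℤ) (n : ℕ) :
    coeff n (ex m * f ^ (n + 1)) = ((Ring.choose (m + n : ℤ) n : ℤ) : ℚ) := by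
  induction n generalizing m with
  | zero =>
    rw [coeff_zero_eq_constantCoeff_apply, map_mul, map_pow, constantCoeff_eq_one hf, constantCoeff_ex]
    simp
  | succ n ih =>
    have hstep : ∀ m : ℤ, coeff (n + 1) (ex m * f ^ (n + 1 + 1)) -
        ((Ring.choose (m + (n + 1 : ℕ) : ℤ) (n + 1) : ℤ) : ℚ) =
        coeff (n + 1) (ex (m - 1) * f ^ (n + 1 + 1)) -
        ((Ring.choose (m - 1 + (n + 1 : ℕ) : ℤ) (n + 1) : ℤ) : ℚ) := by
      intro m
      rw [coeff_rec hf, choose_rec, ih]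
      push_cast
      ring
    have hbase : coeff (n + 1) (ex (-1) * f ^ (n + 1 + 1)) -
        ((Ring.choose (-1 + (n + 1 : ℕ) : ℤ) (n + 1) : ℤ) : ℚ) = 0 := by
      rw [coeff_ex_neg_one hf _ (Nat.succ_ne_zero n)]
      have e : (-1 + (n + 1 : ℕ) : ℤ) = (n : ℤ) := by push_cast; ring
      rw [e, Ring.choose_natCast, Nat.choose_succ_self]
      simp
    have hall : coeff (n + 1) (ex m * f ^ (n + 1 + 1)) -
        ((Ring.choose (m + (n + 1 : ℕ) : ℤ) (n + 1) : ℤ) : ℚ) = 0 := by
      induction m using Int.induction_on with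
      | zero =>
        rw [hstep 0, zero_sub]
        exact hbase
      | succ i hi =>
        rw [hstep, add_sub_cancel_right]
        exact hi
      | pred i hi =>
        rw [hstep] at hi
        exact hi
    exact sub_eq_zero.mp hall

end

theorem eq_of_coeff_pow {f g : ℚ⟦X⟧} (hf : ∀ n : ℕ, coeff n (f ^ (n + 1)) = 1)
    (hg : ∀ n : ℕ, coeff n (g ^ (n + 1)) = 1) : f = g := by
  have hf0 : constantCoeff f = 1 := by simpa using hf 0
  have hg0 : constantCoeff g = 1 := by simpa using hg 0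
  ext n
  induction n using Nat.strong_induction_on with
  | _ n ih =>
    have h1 : X ^ n ∣ f - g := by
      rw [X_pow_dvd_iff]
      intro m hm
      rw [map_sub, ih m hm, sub_self]
    obtain ⟨h, hh⟩ := h1
    have h2 : f ^ (n + 1) - g ^ (n + 1) = X ^ n * (h * ∑ i ∈ Finset.range (n + 1), f ^ i * g ^ (n - i)) := by
      rw [← mul_assoc, ← hh, mul_comm, ← Commute.geom_sum₂_mul (Commute.all f g)]
      simp
    have h3 := congrArg (coeff n) h2
    rw [map_sub, hf, hg, sub_self, coeff_X_pow_mul', if_pos le_rfl, Nat.sub_self,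
      coeff_zero_eq_constantCoeff_apply, map_mul, map_sum] at h3
    simp only [map_mul, map_pow, hf0, hg0, one_pow, mul_one, Finset.sum_const, Finset.card_range,
      nsmul_eq_mul] at h3
    have h4 : ((n + 1 : ℕ) : ℚ) ≠ 0 := by positivity
    have h5 : constantCoeff h = 0 := (mul_eq_zero.mp h3.symm).resolve_right h4
    have h6 : coeff n (f - g) = 0 := by
      rw [hh, coeff_X_pow_mul', if_pos le_rfl, Nat.sub_self, coeff_zero_eq_constantCoeff_apply, h5]
    rw [map_sub] at h6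
    exact sub_eq_zero.mp h6

end K712.ToddSeries
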