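import Groth.Agent.CurvesB.OmegaStalkDict
import Groth.Prelude.Def_Omega3

/-!
# The derivation of the structure sheaf attached to a map `Ω ⟶ O`
-/

set_option autoImplicit false
universe u
open CategoryTheory CategoryTheory.Limits AlgebraicGeometry Opposite TopologicalSpace

namespace K712.VecField

open Groth.Agent Groth.Agent.CurvesB.OmegaDer Groth.Agent.CurvesB.OmegaStalkDict Groth.Agent.VarietyB

variable {A : Type u} [CommRing A] {X : Scheme.{u}} (f : X ⟶ Spec (CommRingCat.of A))
  [QuasiCompact (pullback.diagonal f)] (ξ : Omega.sheaf f ⟶ Coh.structureModule X)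

/-- values of `ξ` on sections -/
noncomputable def val (W : X.Opens) : Γ(Omega.sheaf f, W) →+ Γ(X, W) :=
  (OmegaSh.fnSect X W).comp (ξ.app W).hom

omit [QuasiCompact (pullback.diagonal f)] in
theorem val_smul (W : X.Opens) (a : Γ(X, W)) (m : Γ(Omega.sheaf f, W)) :
    val f ξ W (a • m) = a * val f ξ W m :=
  Scheme.Modules.Hom.app_smul ξ a m

omit [QuasiCompact (pullback.diagonal f)] in
theorem val_res {W W' : X.Opens} (h : W' ≤ W) (m : Γ(Omega.sheaf f, W)) :
    X.presheaf.map (homOfLE h).op (val f ξ W m) =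
      val f ξ W' ((Omega.sheaf f).presheaf.map (homOfLE h).op m) :=
  (congr($(ξ.mapPresheaf.naturality (homOfLE h).op) m)).symm

/-- the derivation attached to `ξ` -/
noncomputable def Dv (W : X.Opens) : Γ(X, W) →+ Γ(X, W) := (val f ξ W).comp (d f W)

theorem Dv_mul (W : X.Opens) (s t : Γ(X, W)) :
    Dv f ξ W (s * t) = s * Dv f ξ W t + t * Dv f ξ W s := by
  change val f ξ W (d f W (s * t)) = _
  rw [d_mul, map_add, val_smul, val_smul]
  rfl

theorem Dv_res {W W' : X.Opens} (h : W' ≤ W) (s : Γ(X, W)) :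
    X.presheaf.map (homOfLE h).op (Dv f ξ W s) = Dv f ξ W' (X.presheaf.map (homOfLE h).op s) := by
  change X.presheaf.map (homOfLE h).op (val f ξ W (d f W s)) = val f ξ W' (d f W' _)
  rw [val_res, d_res]

theorem Dv_const (W : X.Opens) (a : A) : Dv f ξ W (secHom f W a) = 0 := by
  change val f ξ W (d f W _) = 0
  rw [d_secHom, map_zero]

theorem Dv_pow_mem (W : X.Opens) (I : Ideal Γ(X, W)) (s : Γ(X, W)) (hs : Dv f ξ W s ∈ I) (m : ℕ) :
    Dv f ξ W (s ^ m) ∈ I := by
  induction m with
  | zero =>
    rw [pow_zero, ← map_one (secHom f W), Dv_const]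
    exact I.zero_mem
  | succ m ih =>
    rw [pow_succ, Dv_mul]
    exact I.add_mem (I.mul_mem_left _ hs) (I.mul_mem_left _ ih)

theorem vanish {x : X} {W : X.Opens} (hW : IsAffineOpen W) (hx : x ∈ W)
    (h : ∀ s : Γ(X, W), X.presheaf.germ W x hx (Dv f ξ W s) ∈
      IsLocalRing.maximalIdeal (X.presheaf.stalk x)) (U : X.Opens) (hxU : x ∈ U)
    (s : Γ(Omega.sheaf f, U)) : X.presheaf.germ U x hxU (val f ξ U s) ∈
      IsLocalRing.maximalIdeal (X.presheaf.stalk x) := by
  obtain ⟨g, hgU, hxg⟩ := hW.exists_basicOpen_le (V := U) ⟨x, hxU⟩ hx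
  let W' : X.Opens := X.basicOpen g
  have hW' : IsAffineOpen W' := hW.basicOpen g
  have hle : W' ≤ W := X.basicOpen_le g
  -- the derivation on the smaller open
  have h1 : ∀ b : Γ(X, W'), X.presheaf.germ W' x hxg (Dv f ξ W' b) ∈
      IsLocalRing.maximalIdeal (X.presheaf.stalk x) := by
    intro b
    have := hW.isLocalization_basicOpen g
    obtain ⟨⟨c, ⟨_, m, rfl⟩⟩, hc⟩ := IsLocalization.surj (Submonoid.powers g) b
    have hc' : b * X.presheaf.map (homOfLE hle).op (g ^ m) = X.presheaf.map (homOfLE hle).op c := hc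
    have h2 := congrArg (Dv f ξ W') hc'
    rw [Dv_mul, ← Dv_res, ← Dv_res] at h2
    have h3 := congrArg (X.presheaf.germ W' x hxg) h2
    rw [map_add, map_mul, map_mul] at h3
    have e : ∀ t : Γ(X, W), X.presheaf.germ W' x hxg (X.presheaf.map (homOfLE hle).op t) =
        X.presheaf.germ W x hx t := fun t => Fdesc.QCohStalk.ring_germ_map hle x hxg t
    rw [e, e, e] at h3
    have hu : IsUnit (X.presheaf.germ W x hx (g ^ m)) := by
      rw [map_pow]
      exact ((X.mem_basicOpen g x hx).1 hxg).pow m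
    have h4 : X.presheaf.germ W x hx (g ^ m) * X.presheaf.germ W' x hxg (Dv f ξ W' b) ∈
        IsLocalRing.maximalIdeal (X.presheaf.stalk x) := by
      have h5 : X.presheaf.germ W x hx (g ^ m) * X.presheaf.germ W' x hxg (Dv f ξ W' b) =
          X.presheaf.germ W x hx (Dv f ξ W c) -
            X.presheaf.germ W' x hxg b * X.presheaf.germ W x hx (Dv f ξ W (g ^ m)) := by
        rw [← h3]; ring
      rw [h5]
      exact Ideal.sub_mem _ (h c) (Ideal.mul_mem_left _ _ (h _))
    exact (Ideal.unit_mul_mem_iff_mem _ hu).1 h4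
  -- all values on the smaller open
  have h2 : ∀ m : Γ(Omega.sheaf f, W'), X.presheaf.germ W' x hxg (val f ξ W' m) ∈
      IsLocalRing.maximalIdeal (X.presheaf.stalk x) := by
    intro m
    let := secAlg f W'
    let := secMod f (Omega.sheaf f) W'
    have := secTower f (Omega.sheaf f) W'
    obtain ⟨w, rfl⟩ := (bijective_secDer f hW').2 m
    have hw : w ∈ Submodule.span Γ(X, W') (Set.range (KaehlerDifferential.D A Γ(X, W'))) := by
      rw [KaehlerDifferential.span_range_derivation]
      trivial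
    induction hw using Submodule.span_induction with
    | mem y hy =>
      obtain ⟨b, rfl⟩ := hy
      rw [Derivation.liftKaehlerDifferential_comp_D]
      exact h1 b
    | zero =>
      rw [map_zero, map_zero, map_zero]
      exact Ideal.zero_mem _
    | add y z _ _ hy hz =>
      rw [map_add, map_add, map_add]
      exact Ideal.add_mem _ hy hz
    | smul c y _ hy =>
      rw [map_smul, val_smul, map_mul]
      exact Ideal.mul_mem_left _ _ hy
  have h3 := h2 ((Omega.sheaf f).presheaf.map (homOfLE hgU).op s)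
  rw [← val_res] at h3
  have h4 : X.presheaf.germ W' x hxg (X.presheaf.map (homOfLE hgU).op (val f ξ U s)) =
      X.presheaf.germ U x hxU (val f ξ U s) := Fdesc.QCohStalk.ring_germ_map hgU x hxg _
  rwa [h4] at h3

end K712.VecField
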