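import Mathlib.RingTheory.MvPolynomial.Homogeneous
import Mathlib.Algebra.MvPolynomial.Division
import Mathlib.LinearAlgebra.Eigenspace.Triangularizable
import Mathlib.FieldTheory.IsAlgClosed.Basic

/-!
# Quadratic forms satisfying the cocycle relation of a vector field on projective space

`exists_linear`: if quadratic forms `Q i j` satisfy `x_l Q_{ij} = x_i Q_{lj} + x_j Q_{il}` then
`Q_{ij} = x_i B_j - x_j B_i` with linear forms `B_i`; `exists_zero`: over an algebraically closed
field they have a common zero `v ≠ 0` (an eigenvector of the matrix of the `B_i`).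
-/

set_option autoImplicit false

open MvPolynomial

namespace K712.VecForm

variable {k : Type*} [Field k] {n : ℕ}

theorem wdeg (m : Fin (n + 1) →₀ ℕ) : Finsupp.weight (1 : Fin (n + 1) → ℕ) m = m.degree := by
  rw [Finsupp.degree_eq_weight_one]
  rfl

/-- relation of the forms of a vector field -/
def Rel (Q : Fin (n + 1) → Fin (n + 1) → MvPolynomial (Fin (n + 1)) k) : Prop :=
  ∀ i j l, X l * Q i j = X i * Q l j + X j * Q i l

variable {Q : Fin (n + 1) → Fin (n + 1) → MvPolynomial (Fin (n + 1)) k}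

theorem Rel.diag (h : Rel Q) (i : Fin (n + 1)) : Q i i = 0 := by
  have h1 := h i i i
  have h2 : (X i : MvPolynomial (Fin (n + 1)) k) * Q i i = 0 := by linear_combination -h1
  exact (mul_eq_zero.1 h2).resolve_left (X_ne_zero i)

theorem Rel.anti (h : Rel Q) (i j : Fin (n + 1)) : Q i j = - Q j i := by
  have h1 := h i i j
  rw [h.diag, mul_zero] at h1
  have h2 : (X i : MvPolynomial (Fin (n + 1)) k) * (Q i j + Q j i) = 0 := by linear_combination -h1
  have h3 := (mul_eq_zero.1 h2).resolve_left (X_ne_zero i)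
  linear_combination h3

theorem exists_linear (hQ : ∀ i j, (Q i j).IsHomogeneous 2) (h : Rel Q) :
    ∃ B : Fin (n + 1) → MvPolynomial (Fin (n + 1)) k, (∀ j, (B j).IsHomogeneous 1) ∧
      ∀ i j, Q i j = X i * B j - X j * B i := by
  classical
  set s0 : Fin (n + 1) →₀ ℕ := Finsupp.single 0 1 with hs0
  have hle : ∀ m : Fin (n + 1) →₀ ℕ, s0 ≤ m ↔ m 0 ≠ 0 := by
    intro m
    rw [hs0, Finsupp.single_le_iff, Nat.one_le_iff_ne_zero]
  let q : Fin (n + 1) → MvPolynomial (Fin (n + 1)) k := fun j => (Q 0 j).modMonomial s0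
  have hq0 : ∀ j m, m 0 ≠ 0 → coeff m (q j) = 0 := fun j m hm =>
    coeff_modMonomial_of_le _ ((hle m).2 hm)
  have hq1 : ∀ j m, m 0 = 0 → coeff m (q j) = coeff m (Q 0 j) := fun j m hm =>
    coeff_modMonomial_of_not_le _ (fun h => (hle m).1 h hm)
  -- the relation between the reduced forms
  have hrel : ∀ j l, j ≠ 0 → l ≠ 0 → X l * q j = X j * q l := by
    intro j l hj hl
    ext m
    have aux : ∀ a b : Fin (n + 1), a ≠ 0 → coeff m (X a * q b) =
        if m 0 = 0 then coeff m (X a * Q 0 b) else 0 := by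
      intro a b ha
      rw [coeff_X_mul', coeff_X_mul']
      have h1 : (m - Finsupp.single a 1 : Fin (n + 1) →₀ ℕ) 0 = m 0 := by
        rw [Finsupp.tsub_apply, Finsupp.single_apply, if_neg ha, Nat.sub_zero]
      split_ifs with h2 h3 h3
      · exact hq1 _ _ (by rw [h1, h3])
      · exact hq0 _ _ (by rw [h1]; exact h3)
      · rfl
      · rfl
    rw [aux l j hl, aux j l hj]
    split_ifs with h2
    · rw [h 0 j l, coeff_add, coeff_X_mul' m 0, if_neg (by simpa using h2), zero_add]
    · rfl
  -- divisibility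
  have hdvd : ∀ j, j ≠ 0 → (X j : MvPolynomial (Fin (n + 1)) k) ∣ q j := by
    intro j hj
    rw [X_dvd_iff_modMonomial_eq_zero]
    ext m
    rw [coeff_zero]
    by_cases hm : Finsupp.single j 1 ≤ m
    · exact coeff_modMonomial_of_le _ hm
    rw [coeff_modMonomial_of_not_le _ hm]
    have hmj : m j = 0 := by
      by_contra h1
      exact hm (Finsupp.single_le_iff.2 (Nat.one_le_iff_ne_zero.2 h1))
    by_cases hm0 : m 0 = 0
    swap
    · exact hq0 _ _ hm0
    by_contra hne
    have h1 : coeff m (Q 0 j) ≠ 0 := by rw [← hq1 _ _ hm0]; exact hne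
    have h2 : m.degree = 2 := by
      have := hQ 0 j h1
      rwa [wdeg] at this
    obtain ⟨a, ha⟩ : ∃ a, m a ≠ 0 := by
      by_contra h3
      push Not at h3
      have : m = 0 := Finsupp.ext h3
      rw [this, map_zero] at h2
      omega
    have ha0 : a ≠ 0 := by rintro rfl; exact ha hm0
    have haj : a ≠ j := by rintro rfl; exact ha hmj
    have h4 := congrArg (coeff (Finsupp.single a 1 + m)) (hrel j a hj ha0)
    rw [coeff_X_mul, coeff_X_mul', if_neg] at h4
    · exact hne h4
    · rw [Finsupp.mem_support_iff, not_not, Finsupp.add_apply, Finsupp.single_apply, if_neg haj, hmj,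
        add_zero]
  have hL : ∃ L : MvPolynomial (Fin (n + 1)) k, L.IsHomogeneous 1 ∧ ∀ j, j ≠ 0 → q j = X j * L := by
    by_cases hn : ∃ j : Fin (n + 1), j ≠ 0
    · obtain ⟨j, hj⟩ := hn
      obtain ⟨L, hL⟩ := hdvd j hj
      refine ⟨L, ?_, ?_⟩
      · intro m hm
        have h1 : coeff (Finsupp.single j 1 + m) (q j) ≠ 0 := by
          rw [hL, coeff_X_mul]; exact hm
        have h2 : (Finsupp.single j 1 + m : Fin (n + 1) →₀ ℕ) 0 = 0 := by
          by_contra h2
          exact h1 (hq0 _ _ h2)
        rw [hq1 _ _ h2] at h1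
        have h3 := hQ 0 j h1
        rw [wdeg, map_add, Finsupp.degree_single] at h3
        rw [wdeg]
        omega
      · intro l hl
        obtain ⟨L', hL'⟩ := hdvd l hl
        have h1 := hrel j l hj hl
        rw [hL, hL'] at h1
        have h2 : (X l * X j : MvPolynomial (Fin (n + 1)) k) * (L - L') = 0 := by
          linear_combination h1
        have h3 := (mul_eq_zero.1 h2).resolve_left (mul_ne_zero (X_ne_zero l) (X_ne_zero j))
        rw [hL', sub_eq_zero.1 h3]
    · push Not at hn
      exact ⟨0, isHomogeneous_zero _ _ _, fun j hj => absurd (hn j) hj⟩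
  obtain ⟨L, hL1, hL2⟩ := hL
  let B : Fin (n + 1) → MvPolynomial (Fin (n + 1)) k := fun j =>
    if j = 0 then - L else (Q 0 j).divMonomial s0
  have hB0 : B 0 = - L := if_pos rfl
  have hB1 : ∀ j, j ≠ 0 → Q 0 j = X 0 * B j - X j * B 0 := by
    intro j hj
    have h1 := divMonomial_add_modMonomial_single (Q 0 j) 0
    rw [hB0, mul_neg, sub_neg_eq_add, ← hL2 j hj]
    change _ = X 0 * (if j = 0 then - L else (Q 0 j).divMonomial s0) + _
    rw [if_neg hj]
    exact h1.symm
  have hB1' : ∀ j, Q 0 j = X 0 * B j - X j * B 0 := by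
    intro j
    by_cases hj : j = 0
    · subst hj
      rw [h.diag, sub_self]
    · exact hB1 j hj
  refine ⟨B, ?_, ?_⟩
  · intro j
    by_cases hj : j = 0
    · subst hj
      rw [hB0]
      exact (homogeneousSubmodule (Fin (n + 1)) k 1).neg_mem hL1
    · intro m hm
      have h1 : coeff m ((Q 0 j).divMonomial s0) ≠ 0 := by
        have : B j = (Q 0 j).divMonomial s0 := if_neg hj
        rwa [this] at hm
      rw [coeff_divMonomial] at h1
      have h3 := hQ 0 j h1
      rw [wdeg, map_add, hs0, Finsupp.degree_single] at h3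
      rw [wdeg]
      omega
  · intro i j
    have h1 := h 0 j i
    rw [hB1' j, hB1' i] at h1
    have h2 : (X 0 : MvPolynomial (Fin (n + 1)) k) * (Q i j - (X i * B j - X j * B i)) = 0 := by
      linear_combination -h1
    have h3 := (mul_eq_zero.1 h2).resolve_left (X_ne_zero 0)
    exact sub_eq_zero.1 h3

theorem exists_zero (K : Type*) [Field K] [IsAlgClosed K] [Algebra k K]
    (hQ : ∀ i j, (Q i j).IsHomogeneous 2) (h : Rel Q) :
    ∃ v : Fin (n + 1) → K, v ≠ 0 ∧ ∀ i j, aeval v (Q i j) = 0 := by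
  classical
  obtain ⟨B, hB, hQB⟩ := exists_linear hQ h
  have h1 : ∀ p : MvPolynomial (Fin (n + 1)) k, p.IsHomogeneous 1 →
      ∃ φ : (Fin (n + 1) → K) →ₗ[K] K, ∀ v, φ v = aeval v p := by
    intro p hp
    have hp' : p ∈ Submodule.span k (Set.range (X : Fin (n + 1) → MvPolynomial (Fin (n + 1)) k)) := by
      rw [← homogeneousSubmodule_one_eq_span_X]
      exact hp
    induction hp' using Submodule.span_induction with
    | mem x hx =>
      obtain ⟨i, rfl⟩ := hx
      exact ⟨LinearMap.proj i, fun v => by rw [aeval_X]; rfl⟩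
    | zero => exact ⟨0, fun v => by rw [map_zero]; rfl⟩
    | add x y hx hy ihx ihy =>
      have hx' : x.IsHomogeneous 1 := by
        rw [← homogeneousSubmodule_one_eq_span_X] at hx; exact hx
      have hy' : y.IsHomogeneous 1 := by
        rw [← homogeneousSubmodule_one_eq_span_X] at hy; exact hy
      obtain ⟨a, ha⟩ := ihx hx'
      obtain ⟨b, hb⟩ := ihy hy'
      exact ⟨a + b, fun v => by rw [map_add, ← ha, ← hb]; rfl⟩
    | smul c x hx ihx =>
      have hx' : x.IsHomogeneous 1 := by
        rw [← homogeneousSubmodule_one_eq_span_X] at hx; exact hx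
      obtain ⟨a, ha⟩ := ihx hx'
      exact ⟨algebraMap k K c • a, fun v => by
        rw [map_smul, ← ha, Algebra.smul_def]; rfl⟩
  choose φ hφ using fun j => h1 (B j) (hB j)
  let T : (Fin (n + 1) → K) →ₗ[K] (Fin (n + 1) → K) := LinearMap.pi φ
  obtain ⟨c, hc⟩ := Module.End.exists_eigenvalue T
  obtain ⟨v, hv⟩ := hc.exists_hasEigenvector
  refine ⟨v, hv.2, fun i j => ?_⟩
  have h2 : ∀ j, aeval v (B j) = c * v j := by
    intro j
    rw [← hφ]
    have := congrFun hv.apply_eq_smul j
    exact this
  rw [hQB, map_sub, map_mul, map_mul, aeval_X, aeval_X, h2, h2]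
  ring

end K712.VecForm
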