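import Groth.Agent.IntTh.K712.VecField
import Groth.Agent.IntTh.K712.VecForm
import Groth.Agent.CohqA.LaurentProj
import Groth.Agent.CohqB.ProjLift
import Groth.Agent.Fga.QT4
import Mathlib.FieldTheory.IsAlgClosed.AlgebraicClosure

/-!
# A vector field on projective space vanishes somewhere
-/

set_option autoImplicit false
universe u
open CategoryTheory CategoryTheory.Limits AlgebraicGeometry Opposite TopologicalSpace MvPolynomial

namespace K712.VecPn

open Groth.Agent Groth.Agent.CurvesC.ProjSpaceBasic Groth.Agent.CohqA.LaurentLoc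
open Groth.Agent.CohqA.LaurentCech HomogeneousLocalization
open K712.VecField K712.VecForm CurvesB.OmegaStalkDict

variable {k : Type u} [Field k] {n : ℕ}

/-- the exponent of the variable -/
noncomputable abbrev ex (i : Fin (n + 1)) : Fin (n + 1) →₀ ℕ := Finsupp.single i 1

theorem ex_ne_zero (i : Fin (n + 1)) : ex i ≠ 0 := by
  rw [ex, Ne, Finsupp.single_eq_zero]
  exact one_ne_zero

theorem le_Dp (i : Fin (n + 1)) :
    CohqA.LaurentProj.Dp k (CohqA.LaurentProj.ones n) ≤ Dp n k i :=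
  CohqA.LaurentProj.ones_le (ex i)

/-- sections as Laurent polynomials -/
noncomputable abbrev ev (V : (CohB1.ProjSpace n k).Opens)
    (hV : CohqA.LaurentProj.Dp k (CohqA.LaurentProj.ones n) ≤ V) :
    Γ(CohB1.ProjSpace n k, V) →+* LR (Fin (n + 1)) k :=
  CohqA.LaurentProj.ev V hV

/-- fractions on the charts -/
noncomputable def frac (i : Fin (n + 1)) (m : ℕ) (Q : MvPolynomial (Fin (n + 1)) k)
    (hQ : Q.IsHomogeneous m) : Γ(CohB1.ProjSpace n k, Dp n k i) :=
  Proj.awayToSection (CohB1.polyGrading n k) (MvPolynomial.X i)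
    (Away.mk _ (X_mem n k i) m Q (by
      rw [smul_eq_mul, mul_one]; exact (mem_homogeneousSubmodule _ _).2 hQ))

theorem ev_frac (i : Fin (n + 1)) (m : ℕ) (Q : MvPolynomial (Fin (n + 1)) k)
    (hQ : Q.IsHomogeneous m) :
    ev (Dp n k i) (le_Dp i) (frac i m Q hQ) =
      toLaurent Q * AddMonoidAlgebra.single (-(m • castExp (ex i))) 1 := by
  have h1 := CohqA.LaurentProj.ev_secIso (R := k) (ex i) (ex_ne_zero i)
    (Away.mk _ (X_mem n k i) m Q (by
      rw [smul_eq_mul, mul_one]; exact (mem_homogeneousSubmodule _ _).2 hQ))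
  rw [CohqA.LaurentProj.secIso_hom] at h1
  refine h1.trans ?_
  rw [CohqA.LaurentProj.awayToLR_apply, Away.val_mk]
  exact toLR_mk (ex i) Q m _

theorem frac_surjective (i : Fin (n + 1)) (s : Γ(CohB1.ProjSpace n k, Dp n k i)) :
    ∃ (m : ℕ) (Q : MvPolynomial (Fin (n + 1)) k) (hQ : Q.IsHomogeneous m), s = frac i m Q hQ := by
  have hw : Function.Surjective (Proj.awayToSection (CohB1.polyGrading n k) (X i)) := by
    have h : IsIso (Proj.awayToSection (CohB1.polyGrading n k) (X i)) :=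
      (Proj.basicOpenIsoAway (CohB1.polyGrading n k) (X i) (X_mem n k i) one_pos).isIso_hom
    exact (ConcreteCategory.bijective_of_isIso (Proj.awayToSection _ _)).2
  obtain ⟨z, rfl⟩ := hw s
  obtain ⟨m, Q, hQ, rfl⟩ := Away.mk_surjective _ (X_mem n k i) z
  refine ⟨m, Q, ?_, rfl⟩
  rw [smul_eq_mul, mul_one] at hQ
  exact (mem_homogeneousSubmodule _ _).1 hQ

theorem ratio_eq_frac (i j : Fin (n + 1)) :
    ratio n k i j = frac i 1 (X j) (isHomogeneous_X k j) := rfl

/-- the variable in the Laurent ring -/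
noncomputable abbrev x (i : Fin (n + 1)) : LR (Fin (n + 1)) k := toLaurent (X i)

theorem x_eq (i : Fin (n + 1)) : (x i : LR (Fin (n + 1)) k) = AddMonoidAlgebra.single (castExp (ex i)) 1 :=
  toLaurent_monomial _ _

theorem x_unit (i : Fin (n + 1)) : IsUnit (x i : LR (Fin (n + 1)) k) :=
  isUnit_toLaurent_monomial (ex i)

theorem x_pow (i : Fin (n + 1)) (m : ℕ) :
    (x i : LR (Fin (n + 1)) k) ^ m = AddMonoidAlgebra.single (m • castExp (ex i)) 1 := by
  rw [← toLaurent_monomial_pow (ex i) m, map_pow]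
  rfl

theorem x_pow_mul_ev_frac (i : Fin (n + 1)) (m : ℕ) (Q : MvPolynomial (Fin (n + 1)) k)
    (hQ : Q.IsHomogeneous m) :
    x i ^ m * ev (Dp n k i) (le_Dp i) (frac i m Q hQ) = toLaurent Q := by
  rw [ev_frac, x_pow, mul_left_comm, single_mul_single_neg, mul_one]

theorem x_mul_ev_ratio (i j : Fin (n + 1)) :
    x i * ev (Dp n k i) (le_Dp i) (ratio n k i j) = x j := by
  have := x_pow_mul_ev_frac i 1 (X j) (isHomogeneous_X k j)
  rwa [pow_one] at this

theorem ev_inj (i : Fin (n + 1)) : Function.Injective (ev (Dp n k i) (le_Dp (k := k) i)) :=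
  CohqA.LaurentProj.ev_injective (ex i) (ex_ne_zero i) rfl _

variable (ξ : Omega.sheaf (CohB1.ProjSpace.toSpec n k) ⟶ Coh.structureModule (CohB1.ProjSpace n k))

/-- `x_i² D(x_j/x_i)` -/
noncomputable def q (i j : Fin (n + 1)) : LR (Fin (n + 1)) k :=
  x i ^ 2 * ev (Dp n k i) (le_Dp i) (Dv (CohB1.ProjSpace.toSpec n k) ξ (Dp n k i) (ratio n k i j))

theorem q_rel (i j l : Fin (n + 1)) : x l * q ξ i j = x i * q ξ l j + x j * q ξ i l := by
  let W : (CohB1.ProjSpace n k).Opens := CohqA.LaurentProj.Dp k (CohqA.LaurentProj.ones n)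
  have hi : W ≤ Dp n k i := le_Dp i
  have hl : W ≤ Dp n k l := le_Dp l
  have h1 := Fga.QT4.ratio_mul n k i l j hi hl
  have h2 := congrArg (Dv (CohB1.ProjSpace.toSpec n k) ξ W) h1
  rw [Dv_mul, ← Dv_res, ← Dv_res, ← Dv_res] at h2
  have h3 := congrArg (ev W le_rfl) h2
  have e : ∀ (a : Fin (n + 1)) (ha : W ≤ Dp n k a) (s : Γ(CohB1.ProjSpace n k, Dp n k a)),
      ev W le_rfl ((CohB1.ProjSpace n k).presheaf.map (homOfLE ha).op s) =
      ev (Dp n k a) (le_Dp a) s := fun a ha s => CohqA.LaurentProj.ev_map _ ha s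
  rw [map_add, map_mul, map_mul] at h3
  rw [e, e, e, e, e] at h3
  unfold q
  rw [h3]
  have h4 : x i * ev (Dp n k i) (le_Dp i) (ratio n k i l) = x l := x_mul_ev_ratio i l
  have h5 : x l * ev (Dp n k l) (le_Dp l) (ratio n k l j) = x j := x_mul_ev_ratio l j
  linear_combination (x i * x l * ev (Dp n k l) (le_Dp l) (Dv (CohB1.ProjSpace.toSpec n k) ξ (Dp n k l) (ratio n k l j))) * h4 +
    (x i ^ 2 * ev (Dp n k i) (le_Dp i) (Dv (CohB1.ProjSpace.toSpec n k) ξ (Dp n k i) (ratio n k i l))) * h5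



theorem q_diag (i : Fin (n + 1)) : q ξ i i = 0 := by
  have h1 := q_rel ξ i i i
  have h2 : x i * q ξ i i = 0 := by linear_combination -h1
  exact (x_unit i).mul_right_eq_zero.1 h2

theorem q_anti (i j : Fin (n + 1)) : q ξ i j = - q ξ j i := by
  have h1 := q_rel ξ i i j
  rw [q_diag, mul_zero] at h1
  have h2 : x i * (q ξ i j + q ξ j i) = 0 := by linear_combination -h1
  have h3 := (x_unit i).mul_right_eq_zero.1 h2
  linear_combination h3

theorem q_mem (i j : Fin (n + 1)) (m : Fin (n + 1) → ℤ) (hm : (q ξ i j).coeff m ≠ 0) :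
    ∑ a, m a = 2 ∧ ∀ l, l ≠ i → 0 ≤ m l := by
  have h1 := CohqA.LaurentProj.ev_mem (R := k) (ex i) (ex_ne_zero i) rfl (le_Dp i)
    (Dv (CohB1.ProjSpace.toSpec n k) ξ (Dp n k i) (ratio n k i j))
  have h2 : (q ξ i j).coeff m = (ev (Dp n k i) (le_Dp i)
      (Dv (CohB1.ProjSpace.toSpec n k) ξ (Dp n k i) (ratio n k i j))).coeff
        (m - 2 • castExp (ex i)) := by
    unfold q
    rw [x_pow, mul_comm, coeff_mul_single_one]
  rw [h2] at hm
  obtain ⟨h3, h4⟩ := h1 _ hm
  constructor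
  · have h5 : ∑ a, (m - 2 • castExp (ex i)) a = ∑ a, m a - 2 * ((ex i).degree : ℤ) := by
      rw [← sum_castExp, Finset.mul_sum, ← Finset.sum_sub_distrib]
      refine Finset.sum_congr rfl fun a _ => ?_
      simp
    rw [h5, Finsupp.degree_single] at h3
    push_cast at h3
    omega
  · intro l hl
    have h6 := h4 l (by
      rw [Finset.mem_coe, Finsupp.mem_support_iff, not_not, Finsupp.single_apply, if_neg hl.symm])
    have h7 : (m - 2 • castExp (ex i)) l = m l := by
      simp [hl.symm]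
    rwa [h7] at h6

theorem exists_Q (i j : Fin (n + 1)) : ∃ Q : MvPolynomial (Fin (n + 1)) k, Q.IsHomogeneous 2 ∧
    toLaurent Q = q ξ i j := by
  have h0 : ∀ m, (q ξ i j).coeff m ≠ 0 → ∑ a, m a = 2 ∧ ∀ l, 0 ≤ m l := by
    intro m hm
    refine ⟨(q_mem ξ i j m hm).1, fun l => ?_⟩
    by_cases hl : l = i
    · subst hl
      by_cases hj : l = j
      · subst hj
        rw [q_diag] at hm
        exact absurd rfl hm
      · refine (q_mem ξ j l m ?_).2 l hj
        rw [q_anti ξ j l]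
        rw [AddMonoidAlgebra.coeff_neg, Finsupp.neg_apply]
        exact neg_ne_zero.2 hm
    · exact (q_mem ξ i j m hm).2 l hl
  have hs : ((q ξ i j).coeff.support : Set (Fin (n + 1) → ℤ)) ⊆ Set.range castExp := by
    intro m hm
    have h1 := (h0 m (by simpa using hm)).2
    refine ⟨Finsupp.equivFunOnFinite.symm fun i => (m i).toNat, ?_⟩
    funext i
    simp only [castExp_apply, Finsupp.equivFunOnFinite_symm_apply_apply]
    exact Int.toNat_of_nonneg (h1 i)
  have he : toLaurent (AddMonoidAlgebra.comapDomain castExp castExp_injective (q ξ i j) :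
      MvPolynomial (Fin (n + 1)) k) = q ξ i j :=
    AddMonoidAlgebra.mapDomain_comapDomain hs castExp_injective
  refine ⟨AddMonoidAlgebra.comapDomain castExp castExp_injective (q ξ i j), ?_, he⟩
  intro c hc
  rw [wdeg]
  rw [← coeff_toLaurent, he] at hc
  have h2 := (h0 _ hc).1
  rw [sum_castExp] at h2
  exact_mod_cast h2

/-- evaluation of the degree zero fractions at a vector -/
theorem exists_eval (K : Type u) [Field K] [Algebra k K] (v : Fin (n + 1) → K) (i : Fin (n + 1))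
    (hv : v i ≠ 0) : ∃ ψ : Γ(CohB1.ProjSpace n k, Dp n k i) →+* K,
      ∀ (m : ℕ) (Q : MvPolynomial (Fin (n + 1)) k) (hQ : Q.IsHomogeneous m),
        ψ (frac i m Q hQ) * v i ^ m = aeval v Q := by
  have hu : IsUnit ((aeval v : MvPolynomial (Fin (n + 1)) k →ₐ[k] K).toRingHom (X i)) := by
    change IsUnit (aeval v (X i))
    rw [aeval_X]
    exact isUnit_iff_ne_zero.2 hv
  let φ : Away (CohB1.polyGrading n k) (X i : MvPolynomial (Fin (n + 1)) k) →+* K :=
    (IsLocalization.Away.lift (S := Localization.Away (X i : MvPolynomial (Fin (n + 1)) k))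
      (X i) (g := (aeval v : MvPolynomial (Fin (n + 1)) k →ₐ[k] K).toRingHom) hu).comp
      (algebraMap (Away (CohB1.polyGrading n k) (X i : MvPolynomial (Fin (n + 1)) k))
        (Localization.Away (X i : MvPolynomial (Fin (n + 1)) k)))
  let e := Proj.basicOpenIsoAway (CohB1.polyGrading n k) (X i : MvPolynomial (Fin (n + 1)) k)
    (X_mem n k i) one_pos
  refine ⟨φ.comp e.inv.hom, fun m Q hQ => ?_⟩
  have h1 : e.inv.hom (frac i m Q hQ) = Away.mk _ (X_mem n k i) m Q (by
      rw [smul_eq_mul, mul_one]; exact (mem_homogeneousSubmodule _ _).2 hQ) := by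
    exact congr($(e.hom_inv_id).hom _)
  refine (congrArg (fun z => φ z * v i ^ m) h1).trans ?_
  change (IsLocalization.Away.lift (S := Localization.Away (X i : MvPolynomial (Fin (n + 1)) k))
      (X i) (g := (aeval v : MvPolynomial (Fin (n + 1)) k →ₐ[k] K).toRingHom) hu)
      (Away.mk (CohB1.polyGrading n k) (X_mem n k i) m Q (by
      rw [smul_eq_mul, mul_one]; exact (mem_homogeneousSubmodule _ _).2 hQ)).val * v i ^ m = _
  rw [Away.val_mk]
  have h2 : aeval v (X i ^ m : MvPolynomial (Fin (n + 1)) k) = v i ^ m := by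
    rw [map_pow, aeval_X]
  have h3 : ∀ p : MvPolynomial (Fin (n + 1)) k,
      (IsLocalization.Away.lift (S := Localization.Away (X i : MvPolynomial (Fin (n + 1)) k))
      (X i) (g := (aeval v : MvPolynomial (Fin (n + 1)) k →ₐ[k] K).toRingHom) hu)
      (algebraMap _ _ p) = aeval v p := fun p => IsLocalization.Away.lift_eq _ hu p
  rw [← h2, ← h3, ← map_mul, ← h3]
  congr 1
  rw [Localization.mk_eq_mk']
  exact IsLocalization.mk'_spec _ Q _


theorem D_ratio (Q : MvPolynomial (Fin (n + 1)) k) (hQ : Q.IsHomogeneous 2) (i j : Fin (n + 1))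
    (h : toLaurent Q = q ξ i j) :
    Dv (CohB1.ProjSpace.toSpec n k) ξ (Dp n k i) (ratio n k i j) = frac i 2 Q hQ := by
  apply ev_inj i
  apply ((x_unit i).pow 2).mul_left_cancel
  rw [x_pow_mul_ev_frac, h]
  rfl

theorem main : ∃ x : ↥(CohB1.ProjSpace n k), ∀ (U : (CohB1.ProjSpace n k).Opens) (hx : x ∈ U)
      (s : Γ(Omega.sheaf (CohB1.ProjSpace.toSpec n k), U)),
      (CohB1.ProjSpace n k).presheaf.germ U x hx (val (CohB1.ProjSpace.toSpec n k) ξ U s) ∈
        IsLocalRing.maximalIdeal ((CohB1.ProjSpace n k).presheaf.stalk x) := by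
  choose Q hQ hqQ using exists_Q ξ
  have hrel : Rel Q := by
    intro i j l
    apply toLaurent_injective
    rw [map_mul, map_add, map_mul, map_mul, hqQ, hqQ, hqQ]
    exact q_rel ξ i j l
  obtain ⟨v, hv, hz⟩ : ∃ v : Fin (n + 1) → AlgebraicClosure k, v ≠ 0 ∧ ∀ i j, aeval v (Q i j) = 0 :=
    exists_zero (AlgebraicClosure k) hQ hrel
  obtain ⟨a, ha⟩ : ∃ a, v a ≠ 0 := by
    by_contra h
    push Not at h
    exact hv (funext h)
  obtain ⟨ψ, hψ⟩ := exists_eval (k := k) (AlgebraicClosure k) v a ha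
  have hW := isAffineOpen_Dp n k a
  let 𝔭 : PrimeSpectrum Γ(CohB1.ProjSpace n k, Dp n k a) := ⟨RingHom.ker ψ, RingHom.ker_isPrime ψ⟩
  have hx : hW.fromSpec 𝔭 ∈ Dp n k a := by
    have := Set.mem_range_self (f := hW.fromSpec) 𝔭
    rwa [hW.range_fromSpec] at this
  refine ⟨hW.fromSpec 𝔭, fun U hxU s => vanish (CohB1.ProjSpace.toSpec n k) ξ hW hx ?_ U hxU s⟩
  have hD : ∀ j, ψ (Dv (CohB1.ProjSpace.toSpec n k) ξ (Dp n k a) (ratio n k a j)) = 0 := by
    intro j
    rw [D_ratio ξ (Q a j) (hQ a j) a j (hqQ a j)]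
    have h1 := (hψ 2 (Q a j) (hQ a j)).trans (hz a j)
    exact (mul_eq_zero.1 h1).resolve_right (pow_ne_zero 2 ha)
  have key : ∀ s : Γ(CohB1.ProjSpace n k, Dp n k a),
      ψ (Dv (CohB1.ProjSpace.toSpec n k) ξ (Dp n k a) s) = 0 := by
    intro s
    obtain ⟨m, F, hF, rfl⟩ := frac_surjective a s
    have h1 : frac a m F hF = MvPolynomial.eval₂
        (secHom (CohB1.ProjSpace.toSpec n k) (Dp n k a)) (ratio n k a) F :=
      CohqB.ProjLift.awayToSection_mk n k a m F _
    rw [h1]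
    clear h1 hF
    induction F using MvPolynomial.induction_on with
    | C c => rw [eval₂_C, Dv_const, map_zero]
    | add p q hp hq => rw [eval₂_add, map_add, map_add, hp, hq, add_zero]
    | mul_X p j hp =>
      rw [eval₂_mul, eval₂_X, Dv_mul, map_add, map_mul, map_mul, hp, hD, mul_zero, mul_zero,
        add_zero]
  intro s
  have h1 : (Dv (CohB1.ProjSpace.toSpec n k) ξ (Dp n k a) s) ∈ 𝔭.asIdeal := key s
  have h2 : hW.primeIdealOf ⟨hW.fromSpec 𝔭, hx⟩ = 𝔭 :=
    hW.fromSpec.isOpenEmbedding.injective (hW.fromSpec_primeIdealOf _)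
  rw [← h2] at h1
  exact (Fdesc.QCohStalk.mem_primeIdealOf_iff hW _ hx _).1 h1

end K712.VecPn
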